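import Cfsg.Agent.CpAutBFive.Up_m3
import Cfsg.Agent.MFive.Zero
import Cfsg.Agent.CTwoTab.HN
import Cfsg.Agent.KFacts.HN.Sheet
import Cfsg.Agent.LThreeMB.Quo
import Cfsg.Agent.OddHalf.D4.Spor.JTwo
import Cfsg.Agent.J2Sylow.SporSylow
import Cfsg.Agent.MFive.Row
import Cfsg.Agent.S1620
import Cfsg.Agent.CpAutBFive.EvenRow
import Cfsg.Agent.CpAut.TwoInnerB
import Cfsg.Agent.MonsterN.LitFin
import Cfsg.Agent.FastGrp
import Cfsg.Agent.Prune
set_option linter.all false

section
prune_inst 0x7f00000000000000000000000000000000000000000000000000000000000000000000000000000000000000000000000000000000000000000000000000000000000000000000000000000000000000003fffffffffffffffffffffffffffbeffbdffffffff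

-- part: CpAutBFive/ZeroXT
section
set_option linter.all false
open scoped Cfsg.Agent.FastGrp

-- merged: Cfsg.Agent.CpAutBFive.ZeroAbs
section

/-!
# Isolated involutions and a second involution (helper30)

* `Upn p C` : the normal subgroups of `C` with solvable quotient satisfy `Up p`;
* `comps_cent_of_isolated` : `z` isolated in `D`, `C_D(z)` a central extension of the simple group `A`, `t` an involution of `D`
  not conjugate to `z`: `Comps p (C_D(t))`.
-/

set_option autoImplicit false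

namespace Cfsg.Agent.CpAutBFive

open Subgroup Cfsg Cfsg.Agent.LThree Cfsg.Agent.MFive

universe u v w

/-- The normal subgroups of `C` with solvable quotient satisfy `Up p`. -/
def Upn (p : ℕ) (C : Type v) [Group C] : Prop :=
  ∀ (Y : Subgroup C) [Y.Normal], Group.IsSolvable (C ⧸ Y) → Up.{u, v} p ↥Y

/-- The centralizers of the involutions satisfy `Upn p`. -/
def InvUpn (p : ℕ) (X : Type v) [Group X] : Prop :=
  ∀ t : X, orderOf t = 2 → Upn.{u, v} p ↥(centralizer ({t} : Set X))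

/-- quotients of quotients -/
theorem solvable_map {C : Type v} {A : Type w} [Group C] [Group A] (g : C →* A) (hg : Function.Surjective g)
    (Y : Subgroup C) [Y.Normal] [(Y.map g).Normal] (h : Group.IsSolvable (C ⧸ Y)) :
    Group.IsSolvable (A ⧸ Y.map g) := by
  let k : C ⧸ Y →* A ⧸ Y.map g := QuotientGroup.map Y (Y.map g) g (le_comap_map _ _)
  have hk : Function.Surjective k := by
    intro y
    obtain ⟨a, rfl⟩ := QuotientGroup.mk_surjective y
    obtain ⟨c, rfl⟩ := hg a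
    exact ⟨QuotientGroup.mk c, rfl⟩
  exact Group.isSolvable_of_surjective hk

theorem solvable_subgroupMap {C : Type v} {A : Type w} [Group C] [Group A] (g : C →* A) (Y : Subgroup C)
    (hk : Group.IsSolvable ↥g.ker) : Group.IsSolvable ↥(g.subgroupMap Y).ker := by
  let k : ↥(g.subgroupMap Y).ker →* ↥g.ker := (Y.subtype.comp (g.subgroupMap Y).ker.subtype).codRestrict g.ker (by
    intro x
    have h5 : g.subgroupMap Y x = 1 := x.2
    exact congrArg Subtype.val h5)
  have hki : Function.Injective k := by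
    intro a b hab
    exact Subtype.ext (Subtype.ext (congrArg (fun y : ↥g.ker => (y : C)) hab))
  exact Group.isSolvable_of_isSolvable_injective hki

theorem Upn.of_surj {p : ℕ} {C : Type v} {A : Type w} [Group C] [Group A] (h : Upn.{u, w} p A) (g : C →* A)
    (hg : Function.Surjective g) (hk : Group.IsSolvable ↥g.ker) : Upn.{u, v} p C := by
  intro Y hY hs
  have hn : (Y.map g).Normal := hY.map g hg
  exact (h (Y.map g) (solvable_map g hg Y hs)).of_surj (g.subgroupMap Y) (g.subgroupMap_surjective Y)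
    (solvable_subgroupMap g Y hk)

theorem Upn.congr {p : ℕ} {C : Type v} {A : Type w} [Group C] [Group A] (e : C ≃* A) (h : Upn.{u, w} p A) :
    Upn.{u, v} p C :=
  h.of_surj e.toMonoidHom e.surjective (by
    have h1 : e.toMonoidHom.ker = ⊥ := (MonoidHom.ker_eq_bot_iff _).2 e.injective
    rw [h1]
    exact Group.isSolvable_of_comm fun a b => Subsingleton.elim _ _)

theorem Upn.of_near {p : ℕ} (hp : p.Prime) (h5 : 5 ≤ p) {A : Type v} [Group A] (hA : Near p A)
    (hns : ¬ Group.IsSolvable A) : Upn.{u, v} p A := by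
  intro Y hY hs
  obtain ⟨S, hS, h1, h2, h3, h4⟩ := hA
  have hle : S ≤ Y := by
    rcases (inferInstance : (Y.subgroupOf S).Normal).eq_bot_or_eq_top with h | h
    · exfalso
      apply hns
      -- `S` embeds in `A / Y`
      let k : ↥S →* A ⧸ Y := (QuotientGroup.mk' Y).comp S.subtype
      have hk : Function.Injective k := by
        rw [injective_iff_map_eq_one]
        intro a ha
        have h6 : a ∈ Y.subgroupOf S := mem_subgroupOf.2 ((QuotientGroup.eq_one_iff (a : A)).1 ha)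
        rw [h] at h6
        exact mem_bot.1 h6
      have h7 : Group.IsSolvable ↥S := Group.isSolvable_of_isSolvable_injective hk
      rw [Group.isSolvable_iff_subgroup_quotient S]
      exact ⟨h7, h4⟩
    · exact subgroupOf_eq_top.1 h
  refine Up.of_near hp h5 ⟨S.subgroupOf Y, inferInstance, ?_, ?_, ?_, ?_⟩
  · exact (MulEquiv.isSimpleGroup_congr (subgroupOfEquivOfLe hle)).2 h1
  · rwa [Nat.card_congr (subgroupOfEquivOfLe hle).toEquiv]
  · exact (CpQuot.Congr.isCpSimple_iff (subgroupOfEquivOfLe hle) p).2 h3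
  · let k : ↥Y ⧸ S.subgroupOf Y →* A ⧸ S := QuotientGroup.map (S.subgroupOf Y) S Y.subtype le_rfl
    have hk : Function.Injective k := by
      rw [injective_iff_map_eq_one]
      intro a ha
      obtain ⟨a, rfl⟩ := QuotientGroup.mk_surjective a
      exact (QuotientGroup.eq_one_iff a).2 (mem_subgroupOf.2 ((QuotientGroup.eq_one_iff (a : A)).1 ha))
    exact Group.isSolvable_of_isSolvable_injective hk

theorem Upn.up {p : ℕ} {C : Type v} [Group C] (h : Upn.{u, v} p C) : Up.{u, v} p C := by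
  have h1 : Group.IsSolvable (C ⧸ (⊤ : Subgroup C)) := by
    have : Subsingleton (C ⧸ (⊤ : Subgroup C)) := QuotientGroup.subsingleton_quotient_top
    exact Group.isSolvable_of_comm fun a b => Subsingleton.elim _ _
  exact (h ⊤ h1).congr topEquiv.symm

theorem InvUpn.congr {p : ℕ} {X : Type v} {Y : Type w} [Group X] [Group Y] (e : X ≃* Y) (h : InvUpn.{u, w} p Y) :
    InvUpn.{u, v} p X := fun t ht => (h (e t) (by rw [MulEquiv.orderOf_eq, ht])).congr (centEquiv e t)

/-- conjugate elements -/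
theorem upn_conj {p : ℕ} {X : Type v} [Group X] {s t : X} (h : IsConj s t)
    (hs : Upn.{u, v} p ↥(centralizer ({s} : Set X))) : Upn.{u, v} p ↥(centralizer ({t} : Set X)) := by
  obtain ⟨c, hc⟩ := isConj_iff.1 h
  refine Upn.congr (centEquiv (MulAut.conj c⁻¹) t) ?_
  have h1 : (MulAut.conj c⁻¹) t = s := by
    rw [MulAut.conj_apply, ← hc]
    group
  rw [h1]
  exact hs

/-! ### Two involutions -/

/-- two involutions with product in a subgroup of odd order are conjugate -/
theorem conj_of_odd {D : Type u} [Group D] [Finite D] {N : Subgroup D} (hN : Odd (Nat.card ↥N)) {z t : D}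
    (hz : z * z = 1) (ht : t * t = 1) (h : z * t ∈ N) : ∃ d : D, d * t * d⁻¹ = z := by
  set n := z * t with hn
  have ho : Odd (orderOf n) := by
    refine hN.of_dvd_nat ?_
    rw [← Subgroup.orderOf_mk n h]
    exact orderOf_dvd_natCard _
  obtain ⟨j, hj⟩ := ho
  have h1 : t = z * n := by rw [hn, ← mul_assoc, hz, one_mul]
  have hzi : z⁻¹ = z := inv_eq_of_mul_eq_one_left hz
  have h2 : z * n * z⁻¹ = n⁻¹ := by
    rw [hn, mul_inv_rev, hzi, inv_eq_of_mul_eq_one_left ht, ← mul_assoc z z t, hz, one_mul]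
  have h3 : ∀ i : ℕ, n ^ i * z = z * (n ^ i)⁻¹ := by
    intro i
    have h4 : z * n ^ i * z⁻¹ = (n ^ i)⁻¹ := by rw [← conj_pow, h2, inv_pow]
    calc n ^ i * z = z * z⁻¹ * (n ^ i * z) := by group
      _ = z * (z * n ^ i * z⁻¹) := by
        rw [hzi]
        group
      _ = z * (n ^ i)⁻¹ := by rw [h4]
  refine ⟨n ^ (j + 1), ?_⟩
  have h5 : n ^ (2 * j + 1) = 1 := by rw [← hj]; exact pow_orderOf_eq_one n
  calc n ^ (j + 1) * t * (n ^ (j + 1))⁻¹ = (n ^ (j + 1) * z) * n * (n ^ (j + 1))⁻¹ := by rw [h1]; group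
    _ = z * (n ^ (j + 1))⁻¹ * n * (n ^ (j + 1))⁻¹ := by rw [h3]
    _ = z * (n ^ (2 * j + 1))⁻¹ := by
      have h6 : (n ^ (2 * j + 1))⁻¹ = (n ^ (j + 1))⁻¹ * n * (n ^ (j + 1))⁻¹ := by
        rw [← mul_left_cancel_iff (a := n ^ (2 * j + 1)), mul_inv_cancel]
        have h7 : n ^ (2 * j + 1) = n ^ j * n ^ (j + 1) := by rw [← pow_add]; congr 1; omega
        rw [h7]
        calc (1 : D) = n ^ j * n * (n ^ (j + 1))⁻¹ := by rw [← pow_succ, mul_inv_cancel]
          _ = _ := by group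
      rw [h6]; group
    _ = z := by rw [h5, inv_one, mul_one]

/-- **`z` isolated in `D`, `C_D(z)` a central extension of a simple group.** -/
theorem comps_cent_of_isolated (FT : ∀ (K : Type u) [Group K] [Finite K], Odd (Nat.card K) → Group.IsSolvable K)
    {D : Type u} [Group D] [Finite D] {p : ℕ} {z t : D} (hz : orderOf z = 2)
    (hiso : ∀ d : D, (d * z * d⁻¹) * z = z * (d * z * d⁻¹) → d * z * d⁻¹ = z)
    {A : Type v} [Group A] (hAs : IsSimpleGroup A) (hev : Even (Nat.card A)) (hA : InvUpn.{u, v} p A)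
    (f : ↥(centralizer ({z} : Set D)) →* A) (hf : Function.Surjective f)
    (hkc : f.ker ≤ center ↥(centralizer ({z} : Set D)))
    (hk2 : ∀ k ∈ f.ker, k * k = 1 → k = 1 ∨ (k : D) = z) (ht : orderOf t = 2) (hnt : ∀ d : D, d * t * d⁻¹ ≠ z) :
    Comps p ↥(centralizer ({t} : Set D)) := by
  obtain ⟨N, hN, hNo, hsup⟩ := LThreeMB.ZStar.exists_core hz hiso
  have hzz : z * z = 1 := by rw [← pow_two, ← hz, pow_orderOf_eq_one]
  have htt : t * t = 1 := by rw [← pow_two, ← ht, pow_orderOf_eq_one]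
  have hcop : (Nat.card ↥N).Coprime 2 := Nat.coprime_two_right.2 hNo
  let π : D →* D ⧸ N := QuotientGroup.mk' N
  let α : ↥(centralizer ({z} : Set D)) →* D ⧸ N := (QuotientGroup.mk' N).comp (centralizer ({z} : Set D)).subtype
  have hα : Function.Surjective α := by
    intro y
    obtain ⟨g, rfl⟩ := QuotientGroup.mk'_surjective N y
    have hg : g ∈ N ⊔ centralizer ({z} : Set D) := by rw [hsup]; trivial
    obtain ⟨n, hn, c, hc, rfl⟩ := mem_sup_of_normal_left.1 hg
    refine ⟨⟨c, hc⟩, ?_⟩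
    show QuotientGroup.mk' N c = QuotientGroup.mk' N (n * c)
    rw [map_mul, show QuotientGroup.mk' N n = 1 from (QuotientGroup.eq_one_iff _).2 hn, one_mul]
  have hαk : ∀ c : ↥(centralizer ({z} : Set D)), α c = 1 ↔ (c : D) ∈ N := fun c => QuotientGroup.eq_one_iff _
  -- the image of `N ∩ C(z)` in `A` is trivial
  have hAf : Finite A := Finite.of_surjective f hf
  have hle : ∀ c, α c = 1 → f c = 1 := by
    have h1 : ((N.subgroupOf (centralizer ({z} : Set D))).map f).Normal := Subgroup.Normal.map inferInstance f hf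
    have h2 : Nat.card ↥((N.subgroupOf (centralizer ({z} : Set D))).map f) ∣ Nat.card ↥N := by
      refine (card_map_dvd _ f).trans ?_
      have h3 : Nat.card ↥(N.subgroupOf (centralizer ({z} : Set D))) =
          Nat.card ↥((N.subgroupOf (centralizer ({z} : Set D))).map (centralizer ({z} : Set D)).subtype) :=
        (card_map_of_injective (Subgroup.subtype_injective _)).symm
      rw [h3, subgroupOf_map_subtype]
      exact card_dvd_of_le inf_le_left
    intro c hc
    rcases h1.eq_bot_or_eq_top with h | h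
    · have h4 : f c ∈ (N.subgroupOf (centralizer ({z} : Set D))).map f :=
        mem_map_of_mem f (mem_subgroupOf.2 ((hαk c).1 hc))
      rw [h] at h4
      exact mem_bot.1 h4
    · exfalso
      rw [h, card_top] at h2
      exact (Nat.not_even_iff_odd.2 (hNo.of_dvd_nat h2)) hev
  obtain ⟨ρ, hρ⟩ := LThreeMB.exists_fac α hα f (fun a ha => hle a ha)
  have hρs : Function.Surjective ρ := by
    intro s
    obtain ⟨c, rfl⟩ := hf s
    exact ⟨α c, hρ c⟩
  have hρk : ρ.ker ≤ center (D ⧸ N) := by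
    intro e he
    obtain ⟨c, rfl⟩ := hα e
    have hc : c ∈ f.ker := by
      rw [MonoidHom.mem_ker, ← hρ]
      exact he
    rw [mem_center_iff]
    intro e'
    obtain ⟨c', rfl⟩ := hα e'
    rw [← map_mul, ← map_mul, mem_center_iff.1 (hkc hc) c']
  have hρks : Group.IsSolvable ↥ρ.ker :=
    Group.isSolvable_of_comm fun a b => Subtype.ext (mem_center_iff.1 (hρk b.2) a)
  -- the image of `t`
  have hto : orderOf (π t) = 2 := Red.orderOf_mk Nat.prime_two N hcop ht
  have htt' : π t * π t = 1 := by rw [← map_mul, htt, map_one]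
  have ht1 : π t ≠ 1 := fun h => by rw [h, orderOf_one] at hto; omega
  have hρt : ρ (π t) ≠ 1 := by
    intro h
    obtain ⟨c, hc⟩ := hα (π t)
    have hck : c ∈ f.ker := by
      rw [MonoidHom.mem_ker, ← hρ, hc]
      exact h
    have h1 : (c * c : ↥(centralizer ({z} : Set D))) ∈ N.subgroupOf (centralizer ({z} : Set D)) := by
      rw [mem_subgroupOf, ← hαk, map_mul, hc, htt']
    have hodd : Odd (orderOf (c * c)) := by
      have h2 : orderOf ((c * c : ↥(centralizer ({z} : Set D))) : D) ∣ Nat.card ↥N := by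
        rw [← Subgroup.orderOf_mk _ (mem_subgroupOf.1 h1)]
        exact orderOf_dvd_natCard _
      rw [Subgroup.orderOf_coe] at h2
      exact hNo.of_dvd_nat h2
    obtain ⟨m, hm⟩ := hodd
    have h3 : (c ^ (2 * m + 1)) * (c ^ (2 * m + 1)) = 1 := by
      rw [← hm, ← (Commute.refl c).mul_pow, pow_orderOf_eq_one]
    have h4 : α (c ^ (2 * m + 1)) = π t := by
      rw [map_pow, hc, pow_succ, pow_mul, pow_two, htt', one_pow, one_mul]
    rcases hk2 _ (f.ker.pow_mem hck _) h3 with h5 | h5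
    · rw [h5, map_one] at h4
      exact ht1 h4.symm
    · have h6 : π z = π t := (congrArg π h5.symm).trans h4
      obtain ⟨d, hd⟩ := conj_of_odd hNo hzz htt (by
        have h7 : z⁻¹ * t ∈ N := QuotientGroup.eq.1 h6
        rwa [inv_eq_of_mul_eq_one_left hzz] at h7)
      exact hnt d hd
  have hρto : orderOf (ρ (π t)) = 2 := orderOf_eq_prime (by rw [pow_two, ← map_mul, htt', map_one]) hρt
  -- the two centralizers
  let s : D ⧸ N := π t
  let C1 : Subgroup (D ⧸ N) := centralizer {s}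
  let Cs : Subgroup A := centralizer {ρ s}
  let P : Subgroup (D ⧸ N) := Cs.comap ρ
  have hC1P : C1 ≤ P := by
    intro g hg
    rw [mem_centralizer_singleton_iff] at hg
    refine mem_comap.2 (mem_centralizer_singleton_iff.2 ?_)
    rw [← map_mul, hg, map_mul]
  have hcz : ∀ g ∈ P, g * s * g⁻¹ * s⁻¹ ∈ ρ.ker := by
    intro g hg
    have h1 : ρ g * ρ s = ρ s * ρ g := mem_centralizer_singleton_iff.1 (mem_comap.1 hg)
    rw [MonoidHom.mem_ker, map_mul, map_mul, map_mul, map_inv, map_inv, h1]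
    group
  let κ : ↥P →* D ⧸ N :=
    { toFun := fun g => (g : D ⧸ N) * s * (g : D ⧸ N)⁻¹ * s⁻¹
      map_one' := by
        show (1 : D ⧸ N) * s * (1 : D ⧸ N)⁻¹ * s⁻¹ = 1
        group
      map_mul' := by
        intro g h
        show (g : D ⧸ N) * h * s * ((g : D ⧸ N) * h)⁻¹ * s⁻¹ =
          (g : D ⧸ N) * s * (g : D ⧸ N)⁻¹ * s⁻¹ * ((h : D ⧸ N) * s * (h : D ⧸ N)⁻¹ * s⁻¹)
        have h1 := mem_center_iff.1 (hρk (hcz h h.2))
        calc (g : D ⧸ N) * h * s * ((g : D ⧸ N) * h)⁻¹ * s⁻¹ =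
            (g : D ⧸ N) * ((h : D ⧸ N) * s * (h : D ⧸ N)⁻¹ * s⁻¹) * (s * (g : D ⧸ N)⁻¹ * s⁻¹) := by group
          _ = ((h : D ⧸ N) * s * (h : D ⧸ N)⁻¹ * s⁻¹) * (g : D ⧸ N) * (s * (g : D ⧸ N)⁻¹ * s⁻¹) := by rw [h1]
          _ = ((h : D ⧸ N) * s * (h : D ⧸ N)⁻¹ * s⁻¹) * ((g : D ⧸ N) * s * (g : D ⧸ N)⁻¹ * s⁻¹) := by group
          _ = _ := (h1 _).symm }
  have hκk : κ.ker = C1.subgroupOf P := by
    ext g
    rw [MonoidHom.mem_ker, mem_subgroupOf, mem_centralizer_singleton_iff]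
    show (g : D ⧸ N) * s * (g : D ⧸ N)⁻¹ * s⁻¹ = 1 ↔ _
    constructor
    · intro h
      calc (g : D ⧸ N) * s = ((g : D ⧸ N) * s * (g : D ⧸ N)⁻¹ * s⁻¹) * s * g := by group
        _ = s * g := by rw [h, one_mul]
    · intro h
      rw [h]
      group
  have hn : (C1.subgroupOf P).Normal := by rw [← hκk]; infer_instance
  have hq : Group.IsSolvable (↥P ⧸ C1.subgroupOf P) := by
    refine Group.isSolvable_of_comm fun x y => ?_
    obtain ⟨x, rfl⟩ := QuotientGroup.mk'_surjective (C1.subgroupOf P) x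
    obtain ⟨y, rfl⟩ := QuotientGroup.mk'_surjective (C1.subgroupOf P) y
    rw [← map_mul, ← map_mul]
    refine QuotientGroup.eq.2 ?_
    rw [← hκk, MonoidHom.mem_ker, map_mul, map_inv, map_mul, map_mul]
    have h1 : κ y * κ x = κ x * κ y := (mem_center_iff.1 (hρk (hcz x x.2)) (κ y))
    rw [h1]
    group
  let ρP : ↥P →* ↥Cs := ρ.subgroupComap Cs
  have hρP : Function.Surjective ρP := surj_restrict ρ Cs hρs
  have hI : ((C1.subgroupOf P).map ρP).Normal := hn.map ρP hρP
  have h1 : Up.{u, v} p ↥((C1.subgroupOf P).map ρP) :=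
    hA (ρ s) hρto ((C1.subgroupOf P).map ρP) (solvable_map ρP hρP (C1.subgroupOf P) hq)
  have h2 : Up.{u, u} p ↥(C1.subgroupOf P) :=
    h1.of_surj (ρP.subgroupMap (C1.subgroupOf P)) (ρP.subgroupMap_surjective _)
      (solvable_subgroupMap ρP _ (solvable_restrict ρ Cs hρks))
  have h3 : Up.{u, u} p ↥C1 := h2.congr (subgroupOfEquivOfLe hC1P).symm
  have h4 := Red.centralizer_mk Nat.prime_two N hcop ht
  let F : ↥(centralizer ({t} : Set D)) →* ↥((centralizer ({t} : Set D)).map (QuotientGroup.mk' N)) :=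
    (QuotientGroup.mk' N).subgroupMap (centralizer ({t} : Set D))
  have hFk : Group.IsSolvable ↥F.ker := by
    refine solvable_subgroupMap (QuotientGroup.mk' N) _ ?_
    rw [QuotientGroup.ker_mk']
    exact FT _ hNo
  exact (h3.congr (MulEquiv.subgroupCongr h4.symm)) _ F ((QuotientGroup.mk' N).subgroupMap_surjective _) hFk

end Cfsg.Agent.CpAutBFive

end

-- merged: Cfsg.Agent.CpAutBFive.ZeroXT
section

/-!
# Fixed rank 0 and a second involution (helper30)

`x` of order `p ≥ 5` of fixed rank 0 in `C(z)`, `z` isolated in `C(x)`, `A = C_{Co1}(pi x)/⟨pi x⟩` simple of even order with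
`InvUpn p A`: `Comps p (C(x) ∩ C(t))` for the involutions `t` of `C(x)` not conjugate to `z`.
-/

set_option autoImplicit false

namespace Cfsg.Agent.CpAutBFive

open Cfsg Cfsg.Agent.MonsterU Cfsg.Agent.LThree Cfsg.Agent.MFive
open Cfsg.Agent.LThreeMB (fr Zx XX zD toCC toCC_inj toXX)
open Cfsg.Agent.MonsterU.Ch
open Cfsg.Agent.MonsterU.Lam2 (L2)
open Cfsg.Spor (Co1)
open Subgroup (centralizer zpowers mem_centralizer_singleton_iff)

universe u v

variable {p : ℕ} {G : Type u} [Group G] {Q : Subgroup G} {z : G} {eta : G → L2}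
  {pi : Subgroup.centralizer ({z} : Set G) →* Co1}

/-- `C_Q(x) = ⟨z⟩` for `x` of fixed rank 0 -/
theorem eq_of_fr (h : Chart Q z eta pi) (ho : Odd p) {x : Subgroup.centralizer ({z} : Set G)} (hx : x ^ p = 1)
    (hfr : fr (pi x) = 1) {g : G} (hg : g ∈ Q) (hgx : g * (x : G) = x * g) : g = 1 ∨ g = z := by
  rw [← h.eta_zero g hg]
  have h1 : pi x • eta g = eta g := (comm_iff_fix h ho hx hg).1 hgx.symm
  have h2 : pi x • (0 : L2) = 0 := smul_zero _
  unfold fr at hfr
  rw [Nat.card_eq_one_iff_unique] at hfr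
  have h3 := hfr.1.elim (⟨eta g, h1⟩ : {v : L2 // pi x • v = v}) ⟨0, h2⟩
  exact congrArg Subtype.val h3

/-- the elements of the kernel of `toXX` -/
theorem ker_toXX (h : Chart Q z eta pi) (ho : Odd p) {x : Subgroup.centralizer ({z} : Set G)} (hx : x ^ p = 1)
    (hfr : fr (pi x) = 1) {g : ↥(centralizer ({zD x} : Set ↥(centralizer ({(x : G)} : Set G))))}
    (hg : g ∈ (toXX pi x).ker) :
    ∃ i : ℤ, ((g : ↥(centralizer ({(x : G)} : Set G))) : G) = (x : G) ^ i ∨
      ((g : ↥(centralizer ({(x : G)} : Set G))) : G) = (x : G) ^ i * z := by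
  have hgx : ((g : ↥(centralizer ({(x : G)} : Set G))) : G) * x = x * (g : ↥(centralizer ({(x : G)} : Set G))) :=
    mem_centralizer_singleton_iff.1 (g : ↥(centralizer ({(x : G)} : Set G))).2
  have hgz : ((g : ↥(centralizer ({(x : G)} : Set G))) : G) * z = z * (g : ↥(centralizer ({(x : G)} : Set G))) :=
    congrArg Subtype.val (mem_centralizer_singleton_iff.1 g.2)
  have h1 : LThreeMB.be pi x (toCC x g) ∈ Zx (pi x) := (QuotientGroup.eq_one_iff _).1 hg
  obtain ⟨i, hi⟩ := Subgroup.mem_zpowers_iff.1 h1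
  have h2 : (pi x) ^ i = pi ⟨(g : ↥(centralizer ({(x : G)} : Set G))), mem_centralizer_singleton_iff.2 hgz⟩ :=
    congrArg Subtype.val hi
  -- `x^{-i} g ∈ Q`
  have h3 : pi (x ^ (-i) * ⟨(g : ↥(centralizer ({(x : G)} : Set G))), mem_centralizer_singleton_iff.2 hgz⟩) = 1 := by
    rw [map_mul, map_zpow, ← h2, ← zpow_add, neg_add_cancel, zpow_zero]
  have h4 := (h.pi_eq_one _).1 h3
  refine ⟨i, ?_⟩
  rcases eq_of_fr h ho hx hfr h4 (by
    show (x : G) ^ (-i) * (g : ↥(centralizer ({(x : G)} : Set G))) * x = x * ((x : G) ^ (-i) * (g : ↥(centralizer ({(x : G)} : Set G))))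
    rw [mul_assoc, hgx, ← mul_assoc, ← mul_assoc, ← zpow_add_one, ← zpow_one_add, add_comm]) with h5 | h5
  · left
    have h6 : (x : G) ^ (-i) * (g : ↥(centralizer ({(x : G)} : Set G))) = 1 := h5
    rw [zpow_neg, inv_mul_eq_one] at h6
    exact h6.symm
  · right
    have h6 : (x : G) ^ (-i) * (g : ↥(centralizer ({(x : G)} : Set G))) = z := h5
    rw [zpow_neg, inv_mul_eq_iff_eq_mul] at h6
    exact h6

/-- **Fixed rank 0: `C(x) ∩ C(t)`**, `t` an involution of `C(x)` not conjugate to `z` in `C(x)`. -/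
theorem comps_zero_two (FT : ∀ (K : Type u) [Group K] [Finite K], Odd (Nat.card K) → Group.IsSolvable K) [Finite G]
    (h : Chart Q z eta pi) (hp : p.Prime) (h5 : 5 ≤ p) {x : Subgroup.centralizer ({z} : Set G)} (hx : x ^ p = 1)
    (hfr : fr (pi x) = 1)
    (hiso : ∀ d : G, d * (x : G) = x * d → (d * z * d⁻¹) * z = z * (d * z * d⁻¹) → d * z * d⁻¹ = z)
    (hAs : IsSimpleGroup (XX (pi x))) (hev : Even (Nat.card (XX (pi x)))) (hA : InvUpn.{u, 0} p (XX (pi x)))
    {t : G} (ht : orderOf t = 2) (htx : t * (x : G) = x * t) (hnt : ∀ d : G, d * t * d⁻¹ ≠ z) :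
    Comps p ↥(centralizer ({(x : G)} : Set G) ⊓ centralizer ({t} : Set G)) := by
  have ho : Odd p := hp.odd_of_ne_two (by omega)
  have hxp : (x : G) ^ p = 1 := by
    have h1 := congrArg Subtype.val hx
    exact h1
  have hxz : (x : G) * z = z * x := mem_centralizer_singleton_iff.1 x.2
  have hz2 : z * z = 1 := h.large.z_sq
  refine (comps_cent_of_isolated FT (z := zD x)
    (t := (⟨t, mem_centralizer_singleton_iff.2 htx⟩ : ↥(centralizer ({(x : G)} : Set G)))) (orderOf_zD h x)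
    (fun d hd => Subtype.ext (hiso d (mem_centralizer_singleton_iff.1 d.2) (congrArg Subtype.val hd)))
    hAs hev hA (toXX pi x) (toXX_surj h hp ho hx) ?_ ?_ (by rw [← Subgroup.orderOf_coe]; exact ht)
    (fun d hd => hnt d (congrArg Subtype.val hd))).congr (infEquiv htx)
  · intro g hg
    rw [Subgroup.mem_center_iff]
    intro c
    apply Subtype.ext
    apply Subtype.ext
    have hcx : ((c : ↥(centralizer ({(x : G)} : Set G))) : G) * x = x * (c : ↥(centralizer ({(x : G)} : Set G))) :=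
      mem_centralizer_singleton_iff.1 (c : ↥(centralizer ({(x : G)} : Set G))).2
    have hcz : ((c : ↥(centralizer ({(x : G)} : Set G))) : G) * z = z * (c : ↥(centralizer ({(x : G)} : Set G))) :=
      congrArg Subtype.val (mem_centralizer_singleton_iff.1 c.2)
    show ((c : ↥(centralizer ({(x : G)} : Set G))) : G) * (g : ↥(centralizer ({(x : G)} : Set G))) =
      (g : ↥(centralizer ({(x : G)} : Set G))) * ((c : ↥(centralizer ({(x : G)} : Set G))) : G)
    obtain ⟨i, hi | hi⟩ := ker_toXX h ho hx hfr hg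
    · rw [hi]
      exact (show Commute _ (x : G) from hcx).zpow_right i
    · rw [hi]
      exact ((show Commute _ (x : G) from hcx).zpow_right i).mul_right hcz
  · intro k hk hkk
    have hkk' : ((k : ↥(centralizer ({(x : G)} : Set G))) : G) * (k : ↥(centralizer ({(x : G)} : Set G))) = 1 :=
      congrArg (fun y : ↥(centralizer ({zD x} : Set ↥(centralizer ({(x : G)} : Set G)))) =>
        ((y : ↥(centralizer ({(x : G)} : Set G))) : G)) hkk
    have key : ∀ i : ℤ, (x : G) ^ i * (x : G) ^ i = 1 → (x : G) ^ i = 1 := by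
      intro i hi
      have h1 : ((x : G) ^ i) ^ p = 1 := by
        rw [← zpow_natCast, ← zpow_mul, mul_comm, zpow_mul, zpow_natCast, hxp, one_zpow]
      obtain ⟨m, hm⟩ := ho
      rw [hm, pow_succ, pow_mul, pow_two, hi, one_pow, one_mul] at h1
      exact h1
    obtain ⟨i, hi | hi⟩ := ker_toXX h ho hx hfr hk
    · left
      rw [hi] at hkk'
      apply Subtype.ext
      apply Subtype.ext
      show ((k : ↥(centralizer ({(x : G)} : Set G))) : G) = 1
      rw [hi]
      exact key i hkk'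
    · right
      have hc : (x : G) ^ i * z = z * (x : G) ^ i := (show Commute (x : G) z from hxz).zpow_left i
      have h1 : (x : G) ^ i * (x : G) ^ i = 1 := by
        rw [hi] at hkk'
        calc (x : G) ^ i * (x : G) ^ i = (x : G) ^ i * (x : G) ^ i * (z * z) := by rw [hz2, mul_one]
          _ = (x : G) ^ i * ((x : G) ^ i * z) * z := by group
          _ = (x : G) ^ i * (z * (x : G) ^ i) * z := by rw [hc]
          _ = (x : G) ^ i * z * ((x : G) ^ i * z) := by group
          _ = 1 := hkk'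
      apply Subtype.ext
      show ((k : ↥(centralizer ({(x : G)} : Set G))) : G) = z
      rw [hi, key i h1, one_mul]

end Cfsg.Agent.CpAutBFive

end
end

-- part: CpAutBFive/RowB
section
set_option linter.all false
open scoped Cfsg.Agent.FastGrp

-- part: CpAutBFive/Asm
section
-- merged: Cfsg.Agent.CpAutBFive.HNCase
section

/-!
# Centralizers of involutions of `HN` and `p = 5` (helper30)

* `up_W0` : `C(W0) = 2^(1+8).(A5 × A5).2`; `up_Q0` : `C(Q 0) = 2.HS.2`;
* `invUp` : `InvUp 5 HN`;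
* `comps_XT` : `x` of order 5 with `C(x)/⟨x⟩ ≅ HN`, `t` an involution commuting with `x`: `Comps 5 (C(x) ∩ C(t))`.
-/

set_option autoImplicit false

namespace Cfsg.Agent.CpAutBFive.HNCase

open Subgroup Cfsg Cfsg.Agent.LThree Cfsg.Agent.MFive Cfsg.Agent.CpAutBFive
open Cfsg.Agent.KFacts.HN Cfsg.Agent.HN.XWords Cfsg.Agent.HN.XStruct
open Cfsg.Agent.HN Cfsg.Agent.HN.Pres Cfsg.Agent.HN.P1408 Cfsg.Agent.HN.H0Basic
open scoped commutatorElement

universe u v

theorem near_A5 : Near 5 A5 := by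
  have h1 : IsSimpleGroup A5 := alternatingGroup.isSimpleGroup (by simp)
  refine Near.of_simple h1 ?_ (Or.inr (Or.inl ⟨5, Or.inl rfl, ⟨MulEquiv.refl _⟩⟩))
  rw [card_A5]
  decide

theorem near_HS : Near 5 Cfsg.Spor.HS := by
  refine Near.of_simple CTwoTab.HN.simple_HS ?_ ?_
  · rw [CTwoTab.HN.card_HS]
    decide
  · have h : Spor.IsoHS Cfsg.Spor.HS := ⟨MulEquiv.refl _⟩
    refine Or.inr (Or.inr (Or.inr (Or.inr (Or.inl ⟨rfl, ?_⟩))))
    unfold IsCFiveListed
    tauto

theorem solvable_of_card {X : Type v} [Group X] {p n : ℕ} [Fact p.Prime] (h : Nat.card X = p ^ n) :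
    Group.IsSolvable X := by
  have hf : Finite X := Nat.finite_of_card_ne_zero (by rw [h]; exact pow_ne_zero _ (Fact.out : p.Prime).ne_zero)
  have h1 : Group.IsNilpotent X := (IsPGroup.of_card h).isNilpotent
  exact inferInstance

/-! ### `2.HS.2` -/

theorem up_K : Up.{u, 0} 5 ↥HS100.K := by
  obtain ⟨e⟩ := CTwoTab.HN.quo_equiv
  have : Fact (Nat.Prime 2) := ⟨Nat.prime_two⟩
  refine (Up.of_near Nat.prime_five le_rfl near_HS).of_surj
    (e.toMonoidHom.comp (QuotientGroup.mk' (center ↥HS100.K))) (e.surjective.comp (QuotientGroup.mk'_surjective _)) ?_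
  have h1 : (e.toMonoidHom.comp (QuotientGroup.mk' (center ↥HS100.K))).ker = center ↥HS100.K := by
    ext x
    rw [MonoidHom.mem_ker, MonoidHom.comp_apply, ← QuotientGroup.eq_one_iff]
    exact e.map_eq_one_iff
  rw [h1]
  exact Group.isSolvable_of_comm fun a b => Subtype.ext (mem_center_iff.1 b.2 a)

theorem comm_mem_K (a b : H0) : ⁅a, b⁆ ∈ HS100.K := by
  rw [commutatorElement_def]
  change Equiv.Perm.sign (HS100.φ (a * b * a⁻¹ * b⁻¹)) = 1
  rw [map_mul, map_mul, map_mul, map_inv, map_inv, map_mul, map_mul, map_mul, map_inv, map_inv]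
  rw [mul_comm (Equiv.Perm.sign (HS100.φ a)), mul_assoc _ (Equiv.Perm.sign (HS100.φ a)), mul_inv_cancel, mul_one,
    mul_inv_cancel]

theorem up_H0 : Up.{u, 0} 5 H0 := by
  have hK : HS100.K.Normal := HS100.K_normal
  refine Up.of_normal HS100.K ?_ up_K
  refine Group.isSolvable_of_comm fun x y => ?_
  obtain ⟨x, rfl⟩ := QuotientGroup.mk'_surjective HS100.K x
  obtain ⟨y, rfl⟩ := QuotientGroup.mk'_surjective HS100.K y
  rw [← commutatorElement_eq_one_iff_mul_comm, ← map_commutatorElement]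
  exact (QuotientGroup.eq_one_iff _).2 (comm_mem_K x y)

theorem up_Q0 : Up.{u, 0} 5 ↥(centralizer ({Q 0} : Set Cfsg.Spor.HN)) := by
  have h1 : NormalH.ψ.range = centralizer ({Q 0} : Set Cfsg.Spor.HN) := by
    ext x
    rw [mem_centralizer_singleton_iff]
    constructor
    · rintro ⟨u, rfl⟩
      exact comm_of_ψ u
    · intro h
      exact mem_range_of_comm h
  exact Up.congr ((MulEquiv.subgroupCongr h1.symm).trans (MonoidHom.ofInjective emb.inj).symm) up_H0

/-! ### `2^(1+8).(A5 × A5).2` -/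

theorem up_AA : Up.{u, 0} 5 ↥AA :=
  Up.congr (MonoidHom.ofInjective φA_inj).symm (Up.of_near Nat.prime_five le_rfl near_A5)

theorem up_BB : Up.{u, 0} 5 ↥BB :=
  Up.congr (MonoidHom.ofInjective φB_inj).symm (Up.of_near Nat.prime_five le_rfl near_A5)

theorem normal_A : (AA.subgroupOf LL).Normal := by
  refine ⟨fun n hn g => ?_⟩
  obtain ⟨c, hc⟩ := mem_subgroupOf.1 hn
  obtain ⟨a, b, hab⟩ := mem_LL.1 g.2
  refine mem_subgroupOf.2 ⟨a * c * a⁻¹, ?_⟩
  change φA (a * c * a⁻¹) = (g : Lq) * (n : Lq) * (g : Lq)⁻¹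
  rw [← hab, ← hc, map_mul, map_mul, map_inv]
  have h := comm_AB c b
  calc φA a * φA c * (φA a)⁻¹ = φA a * (φA c * φB b) * (φB b)⁻¹ * (φA a)⁻¹ := by group
    _ = φA a * φB b * φA c * (φA a * φB b)⁻¹ := by rw [h]; group

theorem normal_B : (BB.subgroupOf LL).Normal := by
  refine ⟨fun n hn g => ?_⟩
  obtain ⟨c, hc⟩ := mem_subgroupOf.1 hn
  obtain ⟨a, b, hab⟩ := mem_LL.1 g.2
  refine mem_subgroupOf.2 ⟨b * c * b⁻¹, ?_⟩
  change φB (b * c * b⁻¹) = (g : Lq) * (n : Lq) * (g : Lq)⁻¹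
  rw [← hab, ← hc]
  have h := comm_AB a (b * c * b⁻¹)
  rw [map_mul, map_mul, map_inv] at h ⊢
  calc φB b * φB c * (φB b)⁻¹ = φB b * φB c * (φB b)⁻¹ * φA a * (φA a)⁻¹ := by group
    _ = φA a * (φB b * φB c * (φB b)⁻¹) * (φA a)⁻¹ := by rw [← h]
    _ = φA a * φB b * φB c * (φA a * φB b)⁻¹ := by group

theorem up_LL : Up.{u, 0} 5 ↥LL := by
  have hA := normal_A
  have hB := normal_B
  refine Up.of_sup (AA.subgroupOf LL) (BB.subgroupOf LL) ?_ (up_AA.congr (subgroupOfEquivOfLe AA_le))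
    (up_BB.congr (subgroupOfEquivOfLe BB_le))
  rw [eq_top_iff]
  intro x _
  obtain ⟨a, b, hab⟩ := mem_LL.1 x.2
  have h : x = (⟨φA a, A_mem a⟩ : ↥LL) * ⟨φB b, B_mem b⟩ := Subtype.ext hab.symm
  rw [h]
  exact mul_mem (mem_sup_left (mem_subgroupOf.2 ⟨a, rfl⟩)) (mem_sup_right (mem_subgroupOf.2 ⟨b, rfl⟩))

theorem up_Lq : Up.{u, 0} 5 Lq := by
  have hn : LL.Normal := normal_LL
  refine Up.of_normal LL ?_ up_LL
  have h3 : Nat.card (Lq ⧸ LL) = 2 := index_LL
  have : Fact (Nat.Prime 2) := ⟨Nat.prime_two⟩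
  exact solvable_of_card (p := 2) (n := 1) (by rw [h3, pow_one])

theorem up_W0 : Up.{u, 0} 5 ↥(centralizer ({W0} : Set Cfsg.Spor.HN)) := by
  have : Fact (Nat.Prime 2) := ⟨Nat.prime_two⟩
  have h : Up.{u, 0} 5 ↥PP := up_Lq.of_surj ρ ρ_surj (solvable_of_card (p := 2) (n := 9) (by rw [card_ker]; norm_num))
  exact h

/-! ### the group -/

theorem invUp : InvUp.{u, 0} 5 Cfsg.Spor.HN := by
  intro t ht
  have h1 : t * t = 1 := by rw [← pow_two, ← ht, pow_orderOf_eq_one]
  have h2 : t ≠ 1 := fun h => by rw [h, orderOf_one] at ht; omega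
  rcases OddHalf.D4.Spor.HN.inv_cases h1 h2 with ⟨g, hg⟩ | ⟨g, hg⟩
  · exact up_conj (isConj_iff.2 ⟨g, hg⟩) up_W0
  · exact up_conj (isConj_iff.2 ⟨g, hg⟩) up_Q0

theorem invUp_of_iso {X : Type v} [Group X] (h : Spor.IsoHN X) : InvUp.{u, v} 5 X := by
  obtain ⟨e⟩ := h
  exact invUp.congr e

/-- **`x` of order 5 with `C(x)/⟨x⟩ ≅ HN`**: `C(x) ∩ C(t)`. -/
theorem comps_XT {G : Type u} [Group G] [Finite G] {x t : G} (hx : orderOf x = 5) (h : Spor.IsoHN (LThreeMB.XX x))
    (ht : orderOf t = 2) (hxt : x * t = t * x) :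
    Comps 5 ↥(centralizer ({x} : Set G) ⊓ centralizer ({t} : Set G)) := by
  have hc : Nat.card ↥(LThreeMB.Zx x) = 5 := by
    rw [LThreeMB.Zx, Nat.card_zpowers, ← orderOf_injective (centralizer ({x} : Set G)).subtype
      (centralizer ({x} : Set G)).subtype_injective]
    exact hx
  have : Fact (Nat.Prime 5) := ⟨Nat.prime_five⟩
  exact comps_inf (LThreeMB.Zx x) (by rw [hc]; decide) (solvable_of_card (p := 5) (n := 1) (by rw [hc, pow_one]))
    (invUp_of_iso h) ht hxt.symm

end Cfsg.Agent.CpAutBFive.HNCase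

end

-- merged: Cfsg.Agent.CpAutBFive.JTwoCase
section

/-!
# Centralizers of involutions of `J₂` and `p = 5` (helper30)

* `invUpn` : `C(t) = 2^{1+4}_-.A₅`, `C(u) = 2² × A₅`: `InvUpn 5 J₂`.
-/

set_option autoImplicit false

namespace Cfsg.Agent.CpAutBFive.JTwoCase

open Subgroup Cfsg Cfsg.Agent.LThree Cfsg.Agent.MFive Cfsg.Agent.CpAutBFive
open Cfsg.Agent.J2Type.Model Cfsg.Agent.J2Type.SPFacts Cfsg.Agent.J2Type.CStruct
open Cfsg.Agent.J3Type.OneClass Cfsg.Agent.J2Type.Base Cfsg.Agent.KFacts.J2.Basic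
open Cfsg.Agent.KFacts Cfsg.Agent.OddHalf.D4.Spor Cfsg.Agent.OddHalf.D4.Spor.JTwo
open Cfsg.Agent.KFacts.QMinus (permHom range_permHom ker_permHom)

universe u v

abbrev A5 : Type := ↥(alternatingGroup (Fin 5))

theorem simple_A5 : IsSimpleGroup A5 := alternatingGroup.isSimpleGroup (by simp)

theorem not_solvable_A5 : ¬ Group.IsSolvable A5 := by
  intro h
  have := simple_A5
  have h1 := (IsSimpleGroup.comm_iff_isSolvable (G := A5)).2 h
  have h2 : ([0, 1, 2] : List (Fin 5)).formPerm * ([0, 1, 3] : List (Fin 5)).formPerm =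
      ([0, 1, 3] : List (Fin 5)).formPerm * ([0, 1, 2] : List (Fin 5)).formPerm :=
    congrArg Subtype.val (h1 ⟨([0, 1, 2] : List (Fin 5)).formPerm, by rw [Equiv.Perm.mem_alternatingGroup]; decide⟩
      ⟨([0, 1, 3] : List (Fin 5)).formPerm, by rw [Equiv.Perm.mem_alternatingGroup]; decide⟩)
  exact absurd h2 (by decide)

theorem even_A5 : Even (Nat.card A5) := by
  rw [Cfsg.Agent.KFacts.QMinus.card_A5]
  decide

theorem near_A5 : Near 5 A5 :=
  Near.of_simple simple_A5 even_A5 (Or.inr (Or.inl ⟨5, Or.inl rfl, ⟨MulEquiv.refl _⟩⟩))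

theorem upn_A5 : Upn.{u, 0} 5 A5 := Upn.of_near Nat.prime_five le_rfl near_A5 not_solvable_A5

variable {X : Type v} [Group X] {t u : X} {Q : Subgroup (centralizer ({t} : Set X))}
  {v : Fin 5 → centralizer ({t} : Set X)} {ρ : centralizer ({t} : Set X) →* SP}

theorem upn_t [Finite X] (D : Dat t u Q v ρ) : Upn.{u, v} 5 ↥(centralizer ({t} : Set X)) := by
  let f : ↥(centralizer ({t} : Set X)) →* A5 := (permHom ρ).codRestrict _ fun c => by
    rw [← range_permHom D.M]; exact ⟨c, rfl⟩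
  have hf : Function.Surjective f := by
    rintro ⟨σ, hσ⟩
    rw [← range_permHom D.M] at hσ
    obtain ⟨c, hc⟩ := hσ
    exact ⟨c, Subtype.ext hc⟩
  have hk : f.ker = Q := by
    rw [← ker_permHom D.M]
    ext c
    rw [MonoidHom.mem_ker, MonoidHom.mem_ker]
    exact Subtype.ext_iff
  refine upn_A5.of_surj f hf ?_
  rw [hk]
  have : Fact (Nat.Prime 2) := ⟨Nat.prime_two⟩
  have h1 : IsPGroup 2 ↥Q := IsPGroup.of_card (n := 5) (by rw [D.cardQ]; norm_num)
  have h2 : Group.IsNilpotent ↥Q := h1.isNilpotent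
  exact inferInstance

theorem upn_u [Finite X] (D : Dat t u Q v ρ) : Upn.{u, v} 5 ↥(centralizer ({u} : Set X)) := by
  obtain ⟨f, U, V, H0, F⟩ := Cfsg.Agent.J2Type.CentU.main D.F
  obtain ⟨e⟩ := equiv_H0 D F
  have hs := simple_H0 D F
  let S : Subgroup ↥(centralizer ({u} : Set X)) := H0.subgroupOf (centralizer ({u} : Set X))
  let eS : ↥S ≃* A5 := (subgroupOfEquivOfLe F.str.le).trans e
  have hS : S.Normal := ⟨fun x hx c => mem_subgroupOf.2 (F.str.conj_mem c c.2 x (mem_subgroupOf.1 hx))⟩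
  refine Upn.of_near Nat.prime_five le_rfl ⟨S, hS, ?_, ?_, ?_, ?_⟩ ?_
  · exact (MulEquiv.isSimpleGroup_congr eS).2 simple_A5
  · rw [Nat.card_congr eS.toEquiv]
    exact even_A5
  · exact Or.inr (Or.inl ⟨5, Or.inl rfl, ⟨eS⟩⟩)
  · -- the squares are in `S`
    have hsq : ∀ a : ↥(centralizer ({u} : Set X)) ⧸ S, a * a = 1 := by
      intro a
      obtain ⟨a, rfl⟩ := QuotientGroup.mk'_surjective S a
      rw [← map_mul]
      exact (QuotientGroup.eq_one_iff _).2 (mem_subgroupOf.2 (F.str.sq_mem a a.2))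
    refine Group.isSolvable_of_comm fun a b => ?_
    have h1 : a⁻¹ = a := inv_eq_of_mul_eq_one_left (hsq a)
    have h2 : b⁻¹ = b := inv_eq_of_mul_eq_one_left (hsq b)
    have h3 : (a * b)⁻¹ = a * b := inv_eq_of_mul_eq_one_left (hsq (a * b))
    rw [← h3, mul_inv_rev, h1, h2]
  · intro h
    have h1 : Group.IsSolvable ↥S := inferInstance
    exact not_solvable_A5 (Group.isSolvable_of_surjective (f := eS.toMonoidHom) eS.surjective)

theorem invUpn_fin {X : Type v} [Group X] [Finite X] (h : Spor.IsoJ2 X) : InvUpn.{u, v} 5 X := by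
  obtain ⟨t, u, Q, v, ρ, D⟩ := Cfsg.Agent.KFacts.J2.Facts.exists_dat_of h
  intro s hs
  rcases D.F.cover s hs with h | h
  · exact upn_conj h (upn_t D)
  · exact upn_conj h (upn_u D)

theorem invUpn {X : Type v} [Group X] (h : Spor.IsoJ2 X) : InvUpn.{u, v} 5 X := by
  obtain ⟨e⟩ := id h
  have hf : Finite X := by
    refine Nat.finite_of_card_ne_zero ?_
    rw [Nat.card_congr e.toEquiv, Cfsg.Agent.J2Sylow.SporSylow.card_J2]
    norm_num
  exact invUpn_fin h

end Cfsg.Agent.CpAutBFive.JTwoCase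

end

-- merged: Cfsg.Agent.CpAutBFive.Asm
section

/-!
# `C(x) ∩ C(t)` in the Monster, `x` of order 5, `t` a `2A`-involution (helper30)

* `comps_conj`, `lpAll_of_cover` : conjugation, from `C(x) ∩ C(t)` to `L_5(C(t)/Z)`;
* `comps_in` : `Comps 5 (C(x) ∩ C(t))` for `x` commuting with a conjugate of `z`, `t` not conjugate to `z`.
-/

set_option autoImplicit false

namespace Cfsg.Agent.CpAutBFive

open Cfsg Cfsg.Agent.MonsterU Cfsg.Agent.LThree Cfsg.Agent.MFive
open Cfsg.Agent.LThreeMB (fr Zx XX exists_XX_equiv)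
open Cfsg.Agent.MonsterU.Ch
open Cfsg.Agent.MonsterU.Lam2 (L2)
open Cfsg.Spor (Co1)
open Subgroup (centralizer zpowers mem_centralizer_singleton_iff center)

universe u v

section basic

variable {G : Type u} [Group G]

/-- `C(x) ∩ C(t)` -/
abbrev XT (x t : G) : Subgroup G := centralizer ({x} : Set G) ⊓ centralizer ({t} : Set G)

theorem mem_XT {x t g : G} : g ∈ XT x t ↔ g * x = x * g ∧ g * t = t * g := by
  rw [Subgroup.mem_inf, mem_centralizer_singleton_iff, mem_centralizer_singleton_iff]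

theorem conj_comm' {x g k : G} (h : k * x = x * k) : (g * k * g⁻¹) * (g * x * g⁻¹) = (g * x * g⁻¹) * (g * k * g⁻¹) := by
  calc g * k * g⁻¹ * (g * x * g⁻¹) = g * (k * x) * g⁻¹ := by group
    _ = g * (x * k) * g⁻¹ := by rw [h]
    _ = g * x * g⁻¹ * (g * k * g⁻¹) := by group

/-- conjugation of `C(x) ∩ C(t)` -/
def conjXT (g x t : G) : ↥(XT x t) ≃* ↥(XT (g * x * g⁻¹) (g * t * g⁻¹)) where
  toFun c := ⟨g * c * g⁻¹, mem_XT.2 ⟨conj_comm' (mem_XT.1 c.2).1, conj_comm' (mem_XT.1 c.2).2⟩⟩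
  invFun c := ⟨g⁻¹ * c * g, by
    have h := mem_XT.1 c.2
    have h1 := conj_comm' (g := g⁻¹) h.1
    have h2 := conj_comm' (g := g⁻¹) h.2
    rw [inv_inv] at h1 h2
    refine mem_XT.2 ⟨?_, ?_⟩
    · have e : g⁻¹ * (g * x * g⁻¹) * g = x := by group
      rw [e] at h1
      exact h1
    · have e : g⁻¹ * (g * t * g⁻¹) * g = t := by group
      rw [e] at h2
      exact h2⟩
  left_inv c := Subtype.ext (by show g⁻¹ * (g * (c : G) * g⁻¹) * g = c; group)
  right_inv c := Subtype.ext (by show g * (g⁻¹ * (c : G) * g) * g⁻¹ = c; group)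
  map_mul' a b := Subtype.ext (by
    show g * ((a : G) * b) * g⁻¹ = g * a * g⁻¹ * (g * b * g⁻¹); group)

theorem comps_conj {p : ℕ} {g x t x' t' : G} (hx : g * x * g⁻¹ = x') (ht : g * t * g⁻¹ = t')
    (h : Comps p ↥(XT x t)) : Comps p ↥(XT x' t') := by
  subst hx
  subst ht
  exact h.congr (conjXT g x t)

/-- `C_{C(t)}(x) = C(x) ∩ C(t)` -/
def centXT {t : G} (x : ↥(centralizer ({t} : Set G))) :
    ↥(XT (x : G) t) ≃* ↥(centralizer ({x} : Set ↥(centralizer ({t} : Set G)))) where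
  toFun c := ⟨⟨c, mem_centralizer_singleton_iff.2 (mem_XT.1 c.2).2⟩,
    mem_centralizer_singleton_iff.2 (Subtype.ext (mem_XT.1 c.2).1)⟩
  invFun c := ⟨((c : ↥(centralizer ({t} : Set G))) : G),
    mem_XT.2 ⟨congrArg Subtype.val (mem_centralizer_singleton_iff.1 c.2), mem_centralizer_singleton_iff.1 c.1.2⟩⟩
  left_inv _ := rfl
  right_inv _ := rfl
  map_mul' _ _ := rfl

end basic

/-- **The passage to `C(t) / Z`.** -/
theorem lpAll_of_cover {G : Type u} [Group G] [Finite G] {p : ℕ} (hp : p.Prime) (hp2 : p ≠ 2) {t : G} {X : Type v}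
    [Group X] (h2 : Nat.card ↥(center ↥(centralizer ({t} : Set G))) = 2)
    (e : ↥(centralizer ({t} : Set G)) ⧸ center ↥(centralizer ({t} : Set G)) ≃* X)
    (h : ∀ x : G, orderOf x = p → x * t = t * x → Comps p ↥(XT x t)) : LpAll p X (InC p) := by
  have h1 : LpAll p ↥(centralizer ({t} : Set G)) (InC p) := by
    rw [lpAll_iff]
    intro x hx
    rw [← Subgroup.orderOf_coe] at hx
    exact (h x hx (mem_centralizer_singleton_iff.1 x.2)).congr (centXT x)
  have h3 := Red.lpAll_quot hp (center ↥(centralizer ({t} : Set G)))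
    (by rw [h2]; exact (Nat.coprime_primes Nat.prime_two hp).2 hp2.symm) h1
  exact lpAll_of_equiv e (lpAll_iff.1 h3)

theorem simple_of_isoJ2 {S : Type u} [Group S] (h : Spor.IsoJ2 S) : IsSimpleGroup S ∧ Even (Nat.card S) := by
  obtain ⟨e⟩ := id h
  refine ⟨(MulEquiv.isSimpleGroup_congr e).2 Cfsg.Agent.S1620.result.1, ?_⟩
  rw [Nat.card_congr e.toEquiv, Cfsg.Agent.J2Sylow.SporSylow.card_J2]
  decide

variable {G : Type u} [Group G] {Q : Subgroup G} {z : G} {eta : G → L2}
  {pi : Subgroup.centralizer ({z} : Set G) →* Co1}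

/-- **`C(x) ∩ C(t)`**, `x` in `C(z)`. -/
theorem comps_of_mem (FT : ∀ (K : Type u) [Group K] [Finite K], Odd (Nat.card K) → Group.IsSolvable K) [Finite G]
    (h : Chart Q z eta pi) (htr : TrNe 5 z pi) (I : CoFive)
    (hJ : ∀ s : Co1, orderOf s = 5 → fr s = 1 → Spor.IsoJ2 (XX s)) (h8 : HNEight z pi) (hpr : HasPair 5 z pi)
    {x : Subgroup.centralizer ({z} : Set G)} (hx : orderOf x = 5) {t : G} (ht : orderOf t = 2)
    (hnt : ∀ d : G, d * t * d⁻¹ ≠ z) (hxt : (x : G) * t = t * x) : Comps 5 ↥(XT (x : G) t) := by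
  have hp : Nat.Prime 5 := Nat.prime_five
  have ho : Odd 5 := by decide
  rcases cases_five h htr I h8 hpr hx with h1 | ⟨x₀, k, i, hx₀, hfr, hk⟩
  · exact HNCase.comps_XT (by rw [Subgroup.orderOf_coe, hx]) h1 ht hxt
  · have hx₀' : orderOf (x₀ : G) = 5 := by rw [Subgroup.orderOf_coe, hx₀]
    have hoi : orderOf ((x₀ : G) ^ i) = 5 := by
      rw [← hk, ← hx, ← Subgroup.orderOf_coe]
      exact MulEquiv.orderOf_eq (MulAut.conj k) (x : G)
    have hcen := centralizer_pow hp hx₀' hoi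
    have hs := orderOf_pi h hp ho hx₀
    obtain ⟨h2, h3⟩ := simple_of_isoJ2 (hJ _ hs hfr)
    -- the conjugate of `t`
    have hc : (k * t * k⁻¹) * (x₀ : G) ^ i = (x₀ : G) ^ i * (k * t * k⁻¹) := by
      rw [← hk]
      exact conj_comm' hxt.symm
    have hc' : (k * t * k⁻¹) * (x₀ : G) = (x₀ : G) * (k * t * k⁻¹) := by
      have h4 : k * t * k⁻¹ ∈ centralizer ({(x₀ : G)} : Set G) := by
        rw [← hcen]
        exact mem_centralizer_singleton_iff.2 hc
      exact mem_centralizer_singleton_iff.1 h4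
    have ht' : orderOf (k * t * k⁻¹) = 2 := by
      rw [← ht]
      exact MulEquiv.orderOf_eq (MulAut.conj k) t
    have h4 : Comps 5 ↥(XT (x₀ : G) (k * t * k⁻¹)) :=
      comps_zero_two FT h hp le_rfl (by rw [← hx₀, pow_orderOf_eq_one]) hfr
        (fun d hd hc => isolated h htr hx₀ hfr d hd hc) h2 h3 (JTwoCase.invUpn (hJ _ hs hfr)) ht' hc' (by
          intro d hd
          refine hnt (d * k) ?_
          rw [← hd]
          group)
    have h5 : XT (x₀ : G) (k * t * k⁻¹) = XT ((x₀ : G) ^ i) (k * t * k⁻¹) := by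
      unfold XT
      rw [hcen]
    refine comps_conj (g := k⁻¹) (x := (x₀ : G) ^ i) (t := k * t * k⁻¹) ?_ ?_ (h4.congr (MulEquiv.subgroupCongr h5))
    · rw [← hk]; group
    · group

/-- **`C(x) ∩ C(t)`**, for `x` commuting with a conjugate of `z`. -/
theorem comps_in (FT : ∀ (K : Type u) [Group K] [Finite K], Odd (Nat.card K) → Group.IsSolvable K) [Finite G]
    (h : Chart Q z eta pi) (htr : TrNe 5 z pi) (I : CoFive)
    (hJ : ∀ s : Co1, orderOf s = 5 → fr s = 1 → Spor.IsoJ2 (XX s)) (h8 : HNEight z pi) (hpr : HasPair 5 z pi)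
    {x t : G} (hx : orderOf x = 5) (ht : orderOf t = 2) (hnt : ∀ d : G, d * t * d⁻¹ ≠ z) (hxt : x * t = t * x)
    (hex : ∃ g : G, (g * z * g⁻¹) * x = x * (g * z * g⁻¹)) : Comps 5 ↥(XT x t) := by
  obtain ⟨g, hg⟩ := hex
  have h1 : (g⁻¹ * x * g) * z = z * (g⁻¹ * x * g) := by
    calc (g⁻¹ * x * g) * z = g⁻¹ * (x * (g * z * g⁻¹)) * g := by group
      _ = g⁻¹ * ((g * z * g⁻¹) * x) * g := by rw [hg]
      _ = z * (g⁻¹ * x * g) := by group
  let x' : centralizer ({z} : Set G) := ⟨g⁻¹ * x * g, mem_centralizer_singleton_iff.2 h1⟩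
  have h3 : g * (x' : G) * g⁻¹ = x := by
    show g * (g⁻¹ * x * g) * g⁻¹ = x
    group
  have hx' : orderOf x' = 5 := by
    rw [← Subgroup.orderOf_coe, ← hx, ← h3]
    exact (orderOf_injective (MulAut.conj g).toMonoidHom (MulAut.conj g).injective (x' : G)).symm
  have h4 : (x' : G) * (g⁻¹ * t * g) = (g⁻¹ * t * g) * x' := by
    have h5 := conj_comm' (g := g⁻¹) hxt
    rw [inv_inv] at h5
    exact h5
  have h5 : orderOf (g⁻¹ * t * g) = 2 := by
    rw [← ht]
    have h6 := MulEquiv.orderOf_eq (MulAut.conj g⁻¹) t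
    rw [MulAut.conj_apply, inv_inv] at h6
    exact h6
  refine comps_conj h3 (by group) (comps_of_mem FT h htr I hJ h8 hpr hx' h5 ?_ h4)
  intro d hd
  refine hnt (d * g⁻¹) ?_
  rw [← hd]
  group

end Cfsg.Agent.CpAutBFive

end
end

-- part: CpAutBFive/RowB
section
/-!
# `AutC 5` for the Baby Monster (helper30)

The concrete model: `comps` : `Comps 5 (C(x) ∩ C(v))` for `x` of order 5 and `v` a commuting `2A`-involution of the
Monster; `autC_of` : `AutC 5 B`, modulo the facts on the elements of order 5 of `Co1` and the recognition of `HN`.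
-/

set_option autoImplicit false
set_option maxRecDepth 100000

namespace Cfsg.Agent.CpAutBFive.RowB

open Cfsg Cfsg.Agent.LThree Cfsg.Agent.MFive
open Cfsg.Agent.LThreeMB (fr XX exists_XX_equiv KChart.Cent KChart.pi KChart.chart)
open Cfsg.Agent.MonsterX Cfsg.Agent.MonsterX.Model Cfsg.Agent.MonsterX.MainSimple Cfsg.Agent.MonsterX.MainPack
open Cfsg.Agent.MonsterX.MainBasic Cfsg.Agent.MonsterP Cfsg.Agent.MonsterN
open Cfsg.Agent.MonsterU
open Cfsg.Spor (Co1)
open Subgroup (centralizer mem_centralizer_singleton_iff center)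

/-- the involution of the base axis -/
noncomputable def t : ↥InstData.M.G := tG LitFin.all.hG LitFin.all.hR

theorem not_conj {v : ↥InstData.M.G} (hv : IsConj t v) (d : ↥InstData.M.G) : d * v * d⁻¹ ≠ KDone.K.z := by
  obtain ⟨g, rfl⟩ := isConj_iff.1 hv
  intro h
  refine z_ne_conj LitFin.all.hG LitFin.all.hR LitFin.all.hL LitFin.all.hO LitFin.all.hT (d * g).2 ?_
  have h3 : (d * g) * t * (d * g)⁻¹ = KDone.K.z := by
    rw [← h]
    group
  exact (congrArg Subtype.val h3).trans KDone.lnk.z_eq.symm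

theorem orderOf_t {v : ↥InstData.M.G} (hv : IsConj t v) : orderOf v = 2 := by
  obtain ⟨g, rfl⟩ := isConj_iff.1 hv
  have h1 : orderOf (g * t * g⁻¹) = orderOf t := MulEquiv.orderOf_eq (MulAut.conj g) t
  rw [h1]
  refine orderOf_eq_prime (by rw [pow_two]; exact Subtype.ext LitFin.all.hR.t₀_sq) ?_
  exact fun h => LitFin.all.hR.t₀_ne (congrArg Subtype.val h)

/-- **`C(x) ∩ C(v)`.** -/
theorem comps (I : CoFive) (hJ : ∀ s : Co1, orderOf s = 5 → fr s = 1 → Spor.IsoJ2 (XX s))
    (h8 : HNEight KDone.K.z (KChart.pi MFive.Row.hc)) {x v : ↥InstData.M.G} (hx : orderOf x = 5)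
    (hv : IsConj t v) (hxv : x * v = v * x) : Comps 5 ↥(XT x v) := by
  have := MFive.Row.finite_model
  rcases EvenRow.cases_solvable hx with h | h
  · exact comps_in MFive.Row.FT (KChart.chart KDone.lft MFive.Row.hc)
      (KPair.trNe_five KDone.lft LThreeMBTr.tens MFive.Row.hc) I hJ h8
      (KPair.hasPair Nat.prime_five (by decide) KDone.lft LThreeMBTr.tens MFive.Row.hc MFive.Row.two Oct.octPair)
      hx (orderOf_t hv) (not_conj hv) hxv h
  · exact Comps.of_solvable (Group.isSolvable_of_isSolvable_injective (f := Subgroup.inclusion inf_le_left)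
      (Subgroup.inclusion_injective _))

/-- **`L_5(B) ⊆ C_5`.** -/
theorem lpAll (I : CoFive) (hJ : ∀ s : Co1, orderOf s = 5 → fr s = 1 → Spor.IsoJ2 (XX s))
    (h8 : HNEight KDone.K.z (KChart.pi MFive.Row.hc)) : LpAll 5 Spor.BabyMonster (InC 5) := by
  have := MFive.Row.finite_model
  obtain ⟨⟨h1, -, ⟨e⟩⟩, -⟩ := ModelB.fieldsKS LitFin.all KDone.lnk KDone.lft (NodesGrp.prel LitFin.H)
    (NodesNe.ne LitFin.H) LitFin.conj_ten Cfsg.Agent.S1704.result KDone.lnk.x₀_mem
  obtain ⟨g, hg⟩ := ModelB.exists_conj_t LitFin.all.hG LitFin.all.hR KDone.lnk KDone.lft KDone.lnk.x₀_mem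
  exact lpAll_of_cover Nat.prime_five (by norm_num) h1 e fun x hx hc =>
    comps I hJ h8 hx (isConj_iff.2 ⟨g, hg⟩) hc

/-- **Row `five.b` of S1814.** -/
theorem autC_of (I : CoFive) (hJ : ∀ s : Co1, orderOf s = 5 → fr s = 1 → Spor.IsoJ2 (XX s))
    (h8 : HNEight KDone.K.z (KChart.pi MFive.Row.hc)) : CpAut.AutC 5 Spor.BabyMonster := by
  have h0 : IsB Spor.BabyMonster := S1704.result
  have : Finite Spor.BabyMonster := Nat.finite_of_card_ne_zero (by rw [h0.2]; norm_num)
  exact CpAut.autC_of_inner (CpAut.TwoInner.center_eq_bot_of_card h0.1 (by rw [h0.2]; norm_num))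
    (fun α _ => CpAut.TwoInner.inner_b α) fun g hg => lpAll_iff.1 (lpAll I hJ h8) g hg

end Cfsg.Agent.CpAutBFive.RowB
end
end
end
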