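import Cfsg.Agent.MFive.Near
import Cfsg.Agent.LThree.Red2
import Cfsg.Agent.PreUniqCo.LatCo
import Cfsg.Agent.FastGrp
import Cfsg.Agent.Prune
set_option linter.all false

section
prune_inst 0x7fffffffbff8fddfffff7e7fffdfdffddfffffffeffffdfbffe9efff7fff2f65cfe5fbafede6d0fedff7e2b410f87b53fb7eceffeb6bdd7ffffd5ff41ffbffdfffffb52d51fdb8be1ffe6fff9bf177af7fffffffffffffffffffffffffffffefffffffffffff

-- part: CpAutBFive/Up
section
prune_inst 0x10000000000000
set_option linter.all false
open scoped Cfsg.Agent.FastGrp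

/-!
# Groups over which all solvable extensions satisfy `Comps p` (helper30)

* `Up p C` : every finite group mapping onto `C` with solvable kernel satisfies `Comps p`;
* `Up.of_near`, `Up.of_surj`, `Up.of_normal`, `Up.of_sup`, `Up.congr` : closure;
* `InvUp p X` : the centralizers of the involutions of `X` satisfy `Up p`;
* `comps_of_quot`, `comps_inf` : centralizers of involutions in `H`, `H / N` with `InvUp`, `N` solvable of odd order.
-/

set_option autoImplicit false

namespace Cfsg.Agent.CpAutBFive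

open Subgroup Cfsg Cfsg.Agent.LThree Cfsg.Agent.MFive

universe u v w

/-- Every finite group mapping onto `C` with solvable kernel satisfies `Comps p`. -/
def Up (p : ℕ) (C : Type v) [Group C] : Prop :=
  ∀ (D : Type u) [Group D] [Finite D] (f : D →* C), Function.Surjective f → Group.IsSolvable ↥f.ker → Comps p D

/-- kernels of compositions -/
theorem solvable_comp {C : Type u} {D : Type v} {A : Type w} [Group C] [Group D] [Group A] (f : C →* D) (g : D →* A)
    (hf : Group.IsSolvable ↥f.ker) (hg : Group.IsSolvable ↥g.ker) : Group.IsSolvable ↥(g.comp f).ker := by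
  let χ : ↥(g.comp f).ker →* ↥g.ker := (f.comp (g.comp f).ker.subtype).codRestrict g.ker fun x => x.2
  have hχk : Group.IsSolvable ↥χ.ker := by
    let ω : ↥χ.ker →* ↥f.ker := ((g.comp f).ker.subtype.comp χ.ker.subtype).codRestrict f.ker (by
      intro x
      have h5 : χ x = 1 := x.2
      exact congrArg (fun y : ↥g.ker => (y : D)) h5)
    have hω : Function.Injective ω := by
      intro a b hab
      exact Subtype.ext (Subtype.ext (congrArg (fun y : ↥f.ker => (y : C)) hab))
    exact Group.isSolvable_of_isSolvable_injective hω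
  exact Group.isSolvable_of_ker_le_range χ.ker.subtype χ (by rw [range_subtype])

theorem Up.of_surj {p : ℕ} {C : Type v} {A : Type w} [Group C] [Group A] (h : Up.{u, w} p A) (g : C →* A)
    (hg : Function.Surjective g) (hk : Group.IsSolvable ↥g.ker) : Up.{u, v} p C := fun _ _ _ f hf hfk =>
  h _ (g.comp f) (hg.comp hf) (solvable_comp f g hfk hk)

theorem Up.congr {p : ℕ} {C : Type v} {A : Type w} [Group C] [Group A] (e : C ≃* A) (h : Up.{u, w} p A) :
    Up.{u, v} p C :=
  h.of_surj e.toMonoidHom e.surjective (by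
    have h1 : e.toMonoidHom.ker = ⊥ := (MonoidHom.ker_eq_bot_iff _).2 e.injective
    rw [h1]
    exact Group.isSolvable_of_comm fun a b => Subsingleton.elim _ _)

theorem Up.of_near {p : ℕ} (hp : p.Prime) (h5 : 5 ≤ p) {A : Type v} [Group A] (hA : Near p A) : Up.{u, v} p A :=
  fun _ _ _ f hf hk => comps_of_near hp h5 hA f hf hk

theorem Up.of_solvable {p : ℕ} {A : Type v} [Group A] (hA : Group.IsSolvable A) : Up.{u, v} p A := by
  intro D _ _ f hf hk
  exact Comps.of_solvable (Group.isSolvable_of_ker_le_range f.ker.subtype f (by rw [range_subtype]))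

/-- the restriction to a preimage -/
theorem solvable_restrict {C : Type u} {D : Type v} [Group C] [Group D] (f : C →* D) (N : Subgroup D)
    (hf : Group.IsSolvable ↥f.ker) : Group.IsSolvable ↥(f.subgroupComap N).ker := by
  let k : ↥(f.subgroupComap N).ker →* ↥f.ker :=
    ((N.comap f).subtype.comp (f.subgroupComap N).ker.subtype).codRestrict f.ker (fun a => congrArg Subtype.val a.2)
  have hki : Function.Injective k := by
    intro a b hab
    have h6 : ((a : ↥(N.comap f)) : C) = ((b : ↥(N.comap f)) : C) := congrArg (fun n : ↥f.ker => (n : C)) hab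
    exact Subtype.ext (Subtype.ext h6)
  exact Group.isSolvable_of_isSolvable_injective hki

theorem surj_restrict {C : Type u} {D : Type v} [Group C] [Group D] (f : C →* D) (N : Subgroup D)
    (hf : Function.Surjective f) : Function.Surjective (f.subgroupComap N) := by
  rintro ⟨s, hs⟩
  obtain ⟨a, rfl⟩ := hf s
  exact ⟨⟨a, hs⟩, rfl⟩

theorem Up.of_normal {p : ℕ} {A : Type v} [Group A] (N : Subgroup A) [N.Normal] (hs : Group.IsSolvable (A ⧸ N))
    (h : Up.{u, v} p ↥N) : Up.{u, v} p A := by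
  intro D _ _ f hf hk
  have hN : (N.comap f).Normal := inferInstance
  refine Red.comps_of_normal (N.comap f) ?_ (h _ (f.subgroupComap N) (surj_restrict f N hf) (solvable_restrict f N hk))
  let g : D ⧸ N.comap f →* A ⧸ N := QuotientGroup.map (N.comap f) N f le_rfl
  have hg : Function.Injective g := by
    rw [injective_iff_map_eq_one]
    intro y hy
    obtain ⟨a, rfl⟩ := QuotientGroup.mk_surjective y
    have h6 : (QuotientGroup.mk (f a) : A ⧸ N) = 1 := hy
    exact (QuotientGroup.eq_one_iff a).2 ((QuotientGroup.eq_one_iff (f a)).1 h6)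
  exact Group.isSolvable_of_isSolvable_injective hg

theorem Up.of_sup {p : ℕ} {C : Type v} [Group C] (A B : Subgroup C) [A.Normal] [B.Normal] (h : A ⊔ B = ⊤)
    (hA : Up.{u, v} p ↥A) (hB : Up.{u, v} p ↥B) : Up.{u, v} p C := by
  intro D _ _ f hf hk
  refine Red.comps_of_sup_normal (A.comap f) (B.comap f) ?_
    (hA _ (f.subgroupComap A) (surj_restrict f A hf) (solvable_restrict f A hk))
    (hB _ (f.subgroupComap B) (surj_restrict f B hf) (solvable_restrict f B hk))
  rw [eq_top_iff]
  intro d _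
  have h1 : f d ∈ A ⊔ B := by rw [h]; exact mem_top _
  obtain ⟨a, ha, b, hb, hab⟩ := mem_sup_of_normal_left.1 h1
  obtain ⟨a', rfl⟩ := hf a
  have h2 : a'⁻¹ * d ∈ B.comap f := by
    rw [mem_comap, map_mul, map_inv, ← hab]
    simpa using hb
  have h3 : d = a' * (a'⁻¹ * d) := by group
  rw [h3]
  exact mul_mem (mem_sup_left ha) (mem_sup_right h2)

theorem Up.comps {p : ℕ} {C : Type u} [Group C] [Finite C] (h : Up.{u, u} p C) : Comps p C :=
  h C (MonoidHom.id C) Function.surjective_id (by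
    have h1 : (MonoidHom.id C).ker = ⊥ := (MonoidHom.ker_eq_bot_iff _).2 Function.injective_id
    rw [h1]
    exact Group.isSolvable_of_comm fun a b => Subsingleton.elim _ _)

/-! ### Centralizers of involutions -/

/-- The centralizers of the involutions satisfy `Up p`. -/
def InvUp (p : ℕ) (X : Type v) [Group X] : Prop :=
  ∀ t : X, orderOf t = 2 → Up.{u, v} p ↥(centralizer ({t} : Set X))

/-- the centralizer of the image under an isomorphism -/
noncomputable def centEquiv {X : Type v} {Y : Type w} [Group X] [Group Y] (e : X ≃* Y) (t : X) :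
    ↥(centralizer ({t} : Set X)) ≃* ↥(centralizer ({e t} : Set Y)) := by
  have h1 : (centralizer ({t} : Set X)).map e.toMonoidHom = centralizer ({e t} : Set Y) := by
    ext y
    rw [mem_map, mem_centralizer_singleton_iff]
    constructor
    · rintro ⟨x, hx, rfl⟩
      rw [mem_centralizer_singleton_iff] at hx
      show e x * e t = e t * e x
      rw [← map_mul, hx, map_mul]
    · intro hy
      refine ⟨e.symm y, mem_centralizer_singleton_iff.2 (e.injective ?_), e.apply_symm_apply y⟩
      rw [map_mul, map_mul, e.apply_symm_apply, hy]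
  exact ((centralizer ({t} : Set X)).equivMapOfInjective e.toMonoidHom e.injective).trans (MulEquiv.subgroupCongr h1)

theorem InvUp.congr {p : ℕ} {X : Type v} {Y : Type w} [Group X] [Group Y] (e : X ≃* Y) (h : InvUp.{u, w} p Y) :
    InvUp.{u, v} p X := fun t ht => (h (e t) (by rw [MulEquiv.orderOf_eq, ht])).congr (centEquiv e t)

/-- conjugate elements -/
theorem up_conj {p : ℕ} {X : Type v} [Group X] {s t : X} (h : IsConj s t)
    (hs : Up.{u, v} p ↥(centralizer ({s} : Set X))) : Up.{u, v} p ↥(centralizer ({t} : Set X)) := by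
  obtain ⟨c, hc⟩ := isConj_iff.1 h
  refine Up.congr (centEquiv (MulAut.conj c⁻¹) t) ?_
  have h1 : (MulAut.conj c⁻¹) t = s := by
    rw [MulAut.conj_apply, ← hc]
    group
  rw [h1]
  exact hs

/-- **Centralizers in `H` of involutions, `H / N` with `InvUp`, `N` solvable of odd order.** -/
theorem comps_of_quot {p : ℕ} {H : Type u} [Group H] [Finite H] (N : Subgroup H) [N.Normal] (hN : Odd (Nat.card ↥N))
    (hs : Group.IsSolvable ↥N) (h : InvUp.{u, u} p (H ⧸ N)) {t : H} (ht : orderOf t = 2) :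
    Comps p ↥(centralizer ({t} : Set H)) := by
  have hc : (Nat.card ↥N).Coprime 2 := Nat.coprime_two_right.2 hN
  have h1 := Red.centralizer_mk Nat.prime_two N hc ht
  have h2 := h (QuotientGroup.mk' N t) (Red.orderOf_mk Nat.prime_two N hc ht)
  let f : ↥(centralizer ({t} : Set H)) →* ↥((centralizer ({t} : Set H)).map (QuotientGroup.mk' N)) :=
    (QuotientGroup.mk' N).subgroupMap (centralizer ({t} : Set H))
  have hf : Function.Surjective f := (QuotientGroup.mk' N).subgroupMap_surjective _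
  have hk : Group.IsSolvable ↥f.ker := by
    let φ : ↥f.ker →* ↥N := ((centralizer ({t} : Set H)).subtype.comp f.ker.subtype).codRestrict N (by
      intro x
      have h3 : f x = 1 := x.2
      exact (QuotientGroup.eq_one_iff _).1 (congrArg Subtype.val h3))
    have hφ : Function.Injective φ := by
      intro a b hab
      exact Subtype.ext (Subtype.ext (congrArg (fun y : ↥N => (y : H)) hab))
    exact Group.isSolvable_of_isSolvable_injective hφ
  exact (h2.congr (MulEquiv.subgroupCongr h1.symm)) _ f hf hk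

/-- `C_{C(x)}(t) = C(x) ∩ C(t)` -/
noncomputable def infEquiv {G : Type u} [Group G] {x t : G} (ht : t * x = x * t) :
    ↥(centralizer ({(⟨t, mem_centralizer_singleton_iff.2 ht⟩ : ↥(centralizer ({x} : Set G)))} :
      Set ↥(centralizer ({x} : Set G)))) ≃* ↥(centralizer ({x} : Set G) ⊓ centralizer ({t} : Set G)) := by
  let H := centralizer ({x} : Set G)
  let s : ↥H := ⟨t, mem_centralizer_singleton_iff.2 ht⟩
  have h1 : (centralizer ({s} : Set ↥H)).map H.subtype = H ⊓ centralizer ({t} : Set G) := by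
    ext y
    rw [mem_map, mem_inf]
    constructor
    · rintro ⟨c, hc, rfl⟩
      rw [mem_centralizer_singleton_iff] at hc
      exact ⟨c.2, mem_centralizer_singleton_iff.2 (congrArg Subtype.val hc)⟩
    · rintro ⟨h2, h3⟩
      rw [mem_centralizer_singleton_iff] at h3
      exact ⟨⟨y, h2⟩, mem_centralizer_singleton_iff.2 (Subtype.ext h3), rfl⟩
  exact ((centralizer ({s} : Set ↥H)).equivMapOfInjective H.subtype H.subtype_injective).trans
    (MulEquiv.subgroupCongr h1)

/-- **`C(x) ∩ C(t)`** for a normal subgroup `N` of `C(x)`, solvable of odd order, with `C(x) / N` in `InvUp`. -/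
theorem comps_inf {p : ℕ} {G : Type u} [Group G] [Finite G] {x t : G}
    (N : Subgroup ↥(centralizer ({x} : Set G))) [N.Normal] (hN : Odd (Nat.card ↥N)) (hs : Group.IsSolvable ↥N)
    (h : InvUp.{u, u} p (↥(centralizer ({x} : Set G)) ⧸ N)) (ht : orderOf t = 2) (htx : t * x = x * t) :
    Comps p ↥(centralizer ({x} : Set G) ⊓ centralizer ({t} : Set G)) :=
  (comps_of_quot N hN hs h (t := (⟨t, mem_centralizer_singleton_iff.2 htx⟩ : ↥(centralizer ({x} : Set G))))
    (by rw [← Subgroup.orderOf_coe]; exact ht)).congr (infEquiv htx)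

end Cfsg.Agent.CpAutBFive
end

-- part: CoFiveFour/Ker
section
prune_inst 0x4022000000000000020000000000000000000000000000000908000080000000000000000000108000000000021000000000000000000000000000000000000000000c00100000000000000000000000000000000000000000000000000000000
set_option linter.all false
open scoped Cfsg.Agent.FastGrp

/-!
# The pointwise stabilizer of the fixed space of an element of order five

`x` of order five in `Co0` such that the norm `1 + x + ⋯ + x ^ 4` has three images which are independent modulo `5 Λ`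
(`Reg5 x`), `y` commuting with `x`, trivial on `V^x`, with `y ^ r = 1`, `r` a prime different from 5.

* `twelve_le` : `dim ([V, x] ∩ V^y) ≥ 12`;
* `sixteen_le` : if `dim V^x = 4` then `dim V^y ≥ 16`;
* `not_three`, `not_odd` : if `dim V^x = 4` there is no such `y` of order `3` (of odd prime order different from 5).
-/

set_option autoImplicit false

namespace Cfsg.Agent.CoFiveFour.Ker

open Cfsg Cfsg.Agent.SporadicStructure Cfsg.Agent.SporadicStructure.Co0Base
open Cfsg.Agent.SigZeroCo2.Rank Cfsg.Agent.SigZeroCo2.Lin Module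
open Cfsg.Agent.MonsterU.Lam2 Cfsg.Agent.PreUniqCo.FixBound Cfsg.Agent.PreUniqCo.Rat Cfsg.Agent.PreUniqCo.LatCo

/-! ### Linear independence over `ℤ` by descent -/

theorem li_of_five {A ι : Type*} [AddCommGroup A] [Fintype ι] (tf : ∀ a : A, (5 : ℤ) • a = 0 → a = 0) (w : ι → A)
    (h : ∀ c : ι → ℤ, ∑ i, c i • w i = 0 → ∀ i, (5 : ℤ) ∣ c i) : LinearIndependent ℤ w := by
  rw [Fintype.linearIndependent_iff]
  intro c hc
  have key : ∀ (k : ℕ) (c : ι → ℤ), ∑ i, c i • w i = 0 → ∀ i, (5 : ℤ) ^ k ∣ c i := by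
    intro k
    induction k with
    | zero => intro c _ i; rw [pow_zero]; exact one_dvd _
    | succ k ih =>
      intro c hc i
      choose d hd using h c hc
      have h1 : ∑ i, d i • w i = 0 := by
        apply tf
        rw [Finset.smul_sum, ← hc]
        refine Finset.sum_congr rfl fun i _ => ?_
        rw [hd i, smul_smul]
      rw [hd i, pow_succ']
      exact mul_dvd_mul_left 5 (ih d h1 i)
  intro i
  by_contra hne
  have h1 := key (c i).natAbs c hc i
  have h2 : (5 : ℤ) ^ (c i).natAbs ≤ |c i| := Int.le_of_dvd (abs_pos.2 hne) ((dvd_abs _ _).2 h1)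
  have h3 : (c i).natAbs < 5 ^ (c i).natAbs := Nat.lt_pow_self (by norm_num)
  have h4 : |c i| = ((c i).natAbs : ℤ) := Int.abs_eq_natAbs _
  rw [h4] at h2
  have h5 : (5 : ℤ) ^ (c i).natAbs = ((5 ^ (c i).natAbs : ℕ) : ℤ) := by push_cast; rfl
  rw [h5] at h2
  exact absurd (Int.ofNat_le.1 h2) (not_le.2 h3)

/-! ### The descent -/

section descent

variable {A : Type*} [AddCommGroup A] (D T P : A →+ A)

theorem top5 (h4 : ∀ v, D (D (D (D v))) = T v - (5 : ℤ) • P v) (hT : ∀ v, D (T v) = 0) (v : A) :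
    D (D (D (D (D v)))) = (5 : ℤ) • (-D (P v)) := by
  rw [h4 v, map_sub, hT, map_zsmul]
  module

theorem step (h4 : ∀ v, D (D (D (D v))) = T v - (5 : ℤ) • P v) {v w : A} (h : D (D (D (D v))) + (5 : ℤ) • w = 0) :
    T v = (5 : ℤ) • (P v - w) := by
  rw [h4 v] at h
  rw [← sub_eq_zero, ← h]
  module

theorem descend (h4 : ∀ v, D (D (D (D v))) = T v - (5 : ℤ) • P v) (hT : ∀ v, D (T v) = 0) {s₁ s₂ s₃ s₄ : A}
    (h : D s₁ + D (D s₂) + D (D (D s₃)) + D (D (D (D s₄))) = 0)
    (d₁ : (∃ μ, T s₁ = (5 : ℤ) • μ) → ∃ t, s₁ = (5 : ℤ) • t) (d₂ : (∃ μ, T s₂ = (5 : ℤ) • μ) → ∃ t, s₂ = (5 : ℤ) • t)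
    (d₃ : (∃ μ, T s₃ = (5 : ℤ) • μ) → ∃ t, s₃ = (5 : ℤ) • t) :
    (∃ μ, T s₁ = (5 : ℤ) • μ) ∧ (∃ μ, T s₂ = (5 : ℤ) • μ) ∧ (∃ μ, T s₃ = (5 : ℤ) • μ) ∧
      (∃ μ, T s₄ = (5 : ℤ) • μ) := by
  have t5 := top5 D T P h4 hT
  -- first step
  have e1 : ∃ μ, T s₁ = (5 : ℤ) • μ := by
    have h1 := congrArg (fun v => D (D (D v))) h
    simp only [map_add, map_zero, t5] at h1
    refine ⟨_, step D T P h4 (w := -D (P s₂) + D (-D (P s₃)) + D (D (-D (P s₄)))) ?_⟩
    rw [← h1]
    simp only [map_zsmul]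
    module
  obtain ⟨t₁, rfl⟩ := d₁ e1
  -- second step
  have e2 : ∃ μ, T s₂ = (5 : ℤ) • μ := by
    have h1 := congrArg (fun v => D (D v)) h
    simp only [map_add, map_zero, t5] at h1
    refine ⟨_, step D T P h4 (w := D (D (D t₁)) + -D (P s₃) + D (-D (P s₄))) ?_⟩
    rw [← h1]
    simp only [map_zsmul]
    module
  obtain ⟨t₂, rfl⟩ := d₂ e2
  -- third step
  have e3 : ∃ μ, T s₃ = (5 : ℤ) • μ := by
    have h1 := congrArg (fun v => D v) h
    simp only [map_add, map_zero, t5] at h1
    refine ⟨_, step D T P h4 (w := D (D t₁) + D (D (D t₂)) + -D (P s₄)) ?_⟩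
    rw [← h1]
    simp only [map_zsmul]
    module
  obtain ⟨t₃, rfl⟩ := d₃ e3
  refine ⟨e1, e2, e3, _, step D T P h4 (w := D t₁ + D (D t₂) + D (D (D t₃))) ?_⟩
  rw [← h]
  simp only [map_zsmul]
  module

end descent

/-! ### The lattice -/

variable {x y : Co0}

/-- `1 + x + ⋯ + x ^ 4` -/
def Nm (x : Co0) (l : leechLattice) : leechLattice := ∑ k ∈ Finset.range 5, (x ^ k) • l

/-- The norm of `x` has three images which are independent modulo `5 Λ`. -/
def Reg5 (x : Co0) : Prop := ∃ l : Fin 3 → leechLattice, ∀ c : Fin 3 → ℤ,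
  (∃ μ : leechLattice, ∑ i, c i • Nm x (l i) = (5 : ℤ) • μ) → ∀ i, (5 : ℤ) ∣ c i

/-- `1 + y + ⋯ + y ^ (r - 1)` -/
def nrm (y : Co0) (r : ℕ) (l : leechLattice) : leechLattice := ∑ k ∈ Finset.range r, (y ^ k) • l

theorem nm_eq (x : Co0) (l : leechLattice) : Nm x l = nrm x 5 l := rfl

theorem smul_sum' {ι : Type*} (g : Co0) (s : Finset ι) (f : ι → leechLattice) : g • (∑ i ∈ s, f i) = ∑ i ∈ s, g • f i :=
  map_sum (smulHom g) f s

theorem smul_sub' (g : Co0) (v w : leechLattice) : g • (v - w) = g • v - g • w := (smulHom g).map_sub v w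

theorem nrm_fix {r : ℕ} (hy : y ^ r = 1) (l : leechLattice) : y • nrm y r l = nrm y r l := by
  unfold nrm
  rw [smul_sum']
  have h1 : ∀ k, y • (y ^ k • l) = y ^ (k + 1) • l := fun k => by rw [pow_succ', mul_smul]
  rw [Finset.sum_congr rfl fun k _ => h1 k]
  rcases Nat.eq_zero_or_pos r with rfl | hr
  · rw [Finset.sum_range_zero]
    rfl
  · obtain ⟨m, rfl⟩ : ∃ m, r = m + 1 := ⟨r - 1, by omega⟩
    rw [Finset.sum_range_succ, Finset.sum_range_succ' (fun k => y ^ k • l), hy, pow_zero]

theorem nrm_of_fix {r : ℕ} {l : leechLattice} (h : y • l = l) : nrm y r l = (r : ℤ) • l := by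
  have h1 : ∀ k : ℕ, (y ^ k) • l = l := by
    intro k
    induction k with
    | zero => rw [pow_zero, one_smul]
    | succ k ih => rw [pow_succ, mul_smul, h, ih]
  unfold nrm
  rw [Finset.sum_congr rfl fun k _ => h1 k, Finset.sum_const, Finset.card_range, natCast_zsmul]

theorem nrm_smul (hxy : Commute x y) (r : ℕ) (l : leechLattice) : nrm y r (x • l) = x • nrm y r l := by
  unfold nrm
  rw [smul_sum']
  refine Finset.sum_congr rfl fun k _ => ?_
  rw [← mul_smul, ← mul_smul, (hxy.pow_right k).eq]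

theorem nrm_add (r : ℕ) (l m : leechLattice) : nrm y r (l + m) = nrm y r l + nrm y r m := by
  unfold nrm
  rw [← Finset.sum_add_distrib]
  exact Finset.sum_congr rfl fun k _ => co0_smul_add _ _ _

/-- the norm as a homomorphism -/
def nrmHom (y : Co0) (r : ℕ) : leechLattice →+ leechLattice := AddMonoidHom.mk' (nrm y r) (nrm_add r)

theorem nrmHom_apply (y : Co0) (r : ℕ) (l : leechLattice) : nrmHom y r l = nrm y r l := rfl

theorem Nm_expand (x : Co0) (l : leechLattice) :
    Nm x l = l + x • l + x • (x • l) + x • (x • (x • l)) + x • (x • (x • (x • l))) := by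
  unfold Nm
  simp only [Finset.sum_range_succ, Finset.sum_range_zero, zero_add, pow_zero, one_smul, pow_succ, mul_smul,
    one_mul]

/-- `Nm x ∘ Nm_y = Nm_y ∘ Nm x` -/
theorem nrm_Nm (hxy : Commute x y) (r : ℕ) (l : leechLattice) : Nm x (nrm y r l) = nrm y r (Nm x l) := by
  rw [Nm_expand, Nm_expand]
  simp only [nrm_add, nrm_smul hxy]

theorem Nm_nrm (hxy : Commute x y) (r : ℕ) (hfix : ∀ v : leechLattice, x • v = v → y • v = v) (hx : x ^ 5 = 1)
    (l : leechLattice) : Nm x (nrm y r l) = (r : ℤ) • Nm x l := by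
  rw [nrm_Nm hxy]
  exact nrm_of_fix (hfix _ (nrm_fix hx l))

/-- `x - 1` -/
def del (x : Co0) : leechLattice →+ leechLattice := smulHom x - AddMonoidHom.id _

theorem del_apply (x : Co0) (l : leechLattice) : del x l = x • l - l := rfl

/-- `x³ - x² + x` -/
def pe (x : Co0) : leechLattice →+ leechLattice := (smulHom x).comp ((smulHom x).comp (smulHom x)) -
  (smulHom x).comp (smulHom x) + smulHom x

theorem pe_apply (x : Co0) (l : leechLattice) : pe x l = x • (x • (x • l)) - x • (x • l) + x • l := rfl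

theorem del_four (x : Co0) (l : leechLattice) :
    del x (del x (del x (del x l))) = nrmHom x 5 l - (5 : ℤ) • pe x l := by
  rw [nrmHom_apply, ← nm_eq, Nm_expand, pe_apply]
  simp only [del_apply, smul_sub']
  generalize x • (x • (x • (x • l))) = v₄
  generalize x • (x • (x • l)) = v₃
  generalize x • (x • l) = v₂
  generalize x • l = v₁
  module

theorem del_nrm (hx : x ^ 5 = 1) (l : leechLattice) : del x (nrmHom x 5 l) = 0 := by
  rw [del_apply, nrmHom_apply, nrm_fix hx, sub_self]

theorem nrm_del (hx : x ^ 5 = 1) (l : leechLattice) : Nm x (del x l) = 0 := by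
  have h5 : x • (x • (x • (x • (x • l)))) = l := by
    have : x ^ 5 • l = l := by rw [hx, one_smul]
    simpa only [pow_succ, pow_zero, one_mul, mul_smul] using this
  rw [Nm_expand]
  simp only [del_apply, smul_sub', h5]
  abel

/-- The twelve vectors. -/
def vec (x y : Co0) (r : ℕ) (l : Fin 3 → leechLattice) (j : Fin 4 × Fin 3) : leechLattice :=
  (del x)^[(j.1 : ℕ) + 1] (nrm y r (l j.2))

theorem sum_vec (x y : Co0) (r : ℕ) (l : Fin 3 → leechLattice) (c : Fin 4 × Fin 3 → ℤ) :
    ∑ j, c j • vec x y r l j =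
      del x (∑ i, c (0, i) • nrm y r (l i)) + del x (del x (∑ i, c (1, i) • nrm y r (l i))) +
        del x (del x (del x (∑ i, c (2, i) • nrm y r (l i)))) +
        del x (del x (del x (del x (∑ i, c (3, i) • nrm y r (l i))))) := by
  rw [Fintype.sum_prod_type, Fin.sum_univ_four]
  simp only [map_sum, map_zsmul]
  rfl

theorem dvd_of_rel (hx : x ^ 5 = 1) (hxy : Commute x y) {r : ℕ} (hr : r.Prime) (hr5 : r ≠ 5)
    (hfix : ∀ v : leechLattice, x • v = v → y • v = v) {l : Fin 3 → leechLattice}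
    (H : ∀ c : Fin 3 → ℤ, (∃ μ : leechLattice, ∑ i, c i • Nm x (l i) = (5 : ℤ) • μ) → ∀ i, (5 : ℤ) ∣ c i)
    {c : Fin 4 × Fin 3 → ℤ} (h : ∑ j, c j • vec x y r l j = 0) : ∀ j, (5 : ℤ) ∣ c j := by
  rw [sum_vec] at h
  -- the vector of coefficients is divisible by 5 if the trace is
  have key : ∀ a : Fin 3 → ℤ, (∃ μ : leechLattice, nrmHom x 5 (∑ i, a i • nrm y r (l i)) = (5 : ℤ) • μ) →
      ∀ i, (5 : ℤ) ∣ a i := by
    rintro a ⟨μ, hμ⟩ i
    have e : nrmHom x 5 (∑ i, a i • nrm y r (l i)) = ∑ i, (a i * r) • Nm x (l i) := by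
      rw [map_sum]
      refine Finset.sum_congr rfl fun i _ => ?_
      rw [map_zsmul, nrmHom_apply, ← nm_eq, Nm_nrm hxy r hfix hx, smul_smul]
    have h1 := H (fun i => a i * r) ⟨μ, by rw [← e]; exact hμ⟩ i
    have h3 : IsCoprime (5 : ℤ) (r : ℤ) := by
      have := (Nat.coprime_primes Nat.prime_five hr).2 hr5.symm
      exact_mod_cast Nat.isCoprime_iff_coprime.2 this
    exact h3.dvd_of_dvd_mul_right h1
  have key2 : ∀ a : Fin 3 → ℤ, (∃ μ : leechLattice, nrmHom x 5 (∑ i, a i • nrm y r (l i)) = (5 : ℤ) • μ) →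
      ∃ t : leechLattice, ∑ i, a i • nrm y r (l i) = (5 : ℤ) • t := by
    intro a ha
    choose d hd using key a ha
    refine ⟨∑ i, d i • nrm y r (l i), ?_⟩
    rw [Finset.smul_sum]
    refine Finset.sum_congr rfl fun i _ => ?_
    rw [hd i, smul_smul]
  obtain ⟨q1, q2, q3, q4⟩ := descend (del x) (nrmHom x 5) (pe x) (del_four x) (del_nrm hx) h (key2 _) (key2 _) (key2 _)
  rintro ⟨j, i⟩
  fin_cases j
  · exact key _ q1 i
  · exact key _ q2 i
  · exact key _ q3 i
  · exact key _ q4 i

theorem tau_Nm (x : Co0) (l : leechLattice) :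
    (∑ k ∈ Finset.range 5, rep x ^ k) (tau l) = tau (Nm x l) := by
  rw [LinearMap.sum_apply, Nm, map_sum]
  refine Finset.sum_congr rfl fun k _ => ?_
  rw [← map_pow, rep_tau]

/-- **The moved part of the fixed space of `y` has dimension at least 12.** -/
theorem twelve_le (hx : x ^ 5 = 1) (hxy : Commute x y) {r : ℕ} (hr : r.Prime) (hr5 : r ≠ 5) (hy : y ^ r = 1)
    (hfix : fix (rep x) ≤ fix (rep y)) (hreg : Reg5 x) :
    12 ≤ finrank ℚ (movr 5 (rep x) ⊓ fix (rep y) : Submodule ℚ Sp) := by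
  obtain ⟨l, H⟩ := hreg
  have hfix' : ∀ v : leechLattice, x • v = v → y • v = v := fun v hv =>
    mem_fix_tau.1 (hfix (mem_fix_tau.2 hv))
  have tf : ∀ a : leechLattice, (5 : ℤ) • a = 0 → a = 0 := by
    intro a ha
    apply tau_injective
    have h1 := congrArg tau ha
    rw [map_zsmul, map_zero] at h1
    rw [map_zero]
    have h2 : (5 : ℚ) • tau a = 0 := by
      rw [← h1]
      funext i
      simp [zsmul_eq_mul]
    exact (smul_eq_zero.1 h2).resolve_left (by norm_num)
  have hli : LinearIndependent ℤ (vec x y r l) := li_of_five tf _ fun c hc => dvd_of_rel hx hxy hr hr5 hfix' H hc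
  have hli2 : LinearIndependent ℤ (fun i => tau (vec x y r l i)) :=
    hli.map' tau.toIntLinearMap (LinearMap.ker_eq_bot.2 tau_injective)
  have hli3 : LinearIndependent ℚ (fun i => tau (vec x y r l i)) :=
    (LinearIndependent.iff_fractionRing ℤ ℚ).1 hli2
  have hmov : ∀ v : leechLattice, Nm x v = 0 → tau v ∈ movr 5 (rep x) := by
    intro v hv
    rw [movr, LinearMap.mem_ker, tau_Nm, hv, map_zero]
  have hd : ∀ v : leechLattice, y • v = v → y • del x v = del x v := by
    intro v hv
    rw [del_apply, smul_sub', ← mul_smul, ← hxy.eq, mul_smul, hv]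
  have hit : ∀ (k : ℕ) (v : leechLattice), y • v = v → y • (del x)^[k + 1] v = (del x)^[k + 1] v ∧
      Nm x ((del x)^[k + 1] v) = 0 := by
    intro k
    induction k with
    | zero => intro v hv; exact ⟨hd v hv, nrm_del hx v⟩
    | succ k ih =>
      intro v hv
      rw [Function.iterate_succ']
      exact ⟨hd _ (ih v hv).1, nrm_del hx _⟩
  have hmem : ∀ i, tau (vec x y r l i) ∈ (movr 5 (rep x) ⊓ fix (rep y) : Submodule ℚ Sp) := by
    rintro ⟨j, i⟩
    obtain ⟨q1, q2⟩ := hit j (nrm y r (l i)) (nrm_fix hy _)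
    exact ⟨hmov _ q2, mem_fix_tau.2 q1⟩
  have hli4 : LinearIndependent ℚ (fun i => (⟨tau (vec x y r l i), hmem i⟩ :
      (movr 5 (rep x) ⊓ fix (rep y) : Submodule ℚ Sp))) := by
    refine LinearIndependent.of_comp (Submodule.subtype _) ?_
    exact hli3
  have h1 := hli4.fintype_card_le_finrank
  rwa [Fintype.card_prod, Fintype.card_fin, Fintype.card_fin] at h1

theorem finrank_Sp : finrank ℚ Sp = 24 := by
  rw [Module.finrank_fintype_fun_eq_card]
  rfl

/-- **The fixed space of `y` has dimension at least `dim V^x + 12`.** -/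
theorem fix_add_le (hx : x ^ 5 = 1) (hxy : Commute x y) {r : ℕ} (hr : r.Prime) (hr5 : r ≠ 5) (hy : y ^ r = 1)
    (hfix : fix (rep x) ≤ fix (rep y)) (hreg : Reg5 x) :
    finrank ℚ (fix (rep x)) + 12 ≤ finrank ℚ (fix (rep y)) := by
  have h12 := twelve_le hx hxy hr hr5 hy hfix hreg
  have hinf : fix (rep x) ⊓ (movr 5 (rep x) ⊓ fix (rep y)) = (⊥ : Submodule ℚ Sp) := by
    rw [eq_bot_iff]
    rintro v ⟨h1, h2, -⟩
    have h3 : (∑ k ∈ Finset.range 5, rep x ^ k) v = 0 := h2
    rw [sum_apply_fix (mem_fix.1 h1)] at h3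
    exact (smul_eq_zero.1 h3).resolve_left (by norm_num)
  have h1 := Submodule.finrank_sup_add_finrank_inf_eq (fix (rep x)) (movr 5 (rep x) ⊓ fix (rep y))
  rw [hinf, finrank_bot, add_zero] at h1
  have h2 : fix (rep x) ⊔ (movr 5 (rep x) ⊓ fix (rep y)) ≤ fix (rep y) := sup_le hfix inf_le_right
  have h3 := Submodule.finrank_mono h2
  omega

theorem sixteen_le (hx : x ^ 5 = 1) (h4 : finrank ℚ (fix (rep x)) = 4) (hreg : Reg5 x) (hxy : Commute x y) {r : ℕ}
    (hr : r.Prime) (hr5 : r ≠ 5) (hy : y ^ r = 1) (hfix : fix (rep x) ≤ fix (rep y)) :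
    16 ≤ finrank ℚ (fix (rep y)) := by
  have := fix_add_le hx hxy hr hr5 hy hfix hreg
  omega

/-- **The pointwise stabilizer of `V^x` has no elements of odd prime order `r ≠ 5` commuting with `x`.** -/
theorem not_odd (F : Facts) (hx : x ^ 5 = 1) (h4 : finrank ℚ (fix (rep x)) = 4) (hreg : Reg5 x) (hxy : Commute x y)
    {r : ℕ} (hr : r.Prime) (hr2 : r ≠ 2) (hr5 : r ≠ 5) (hy : orderOf y = r) (hfix : fix (rep x) ≤ fix (rep y)) :
    False := by
  have hyr : y ^ r = 1 := by rw [← hy, pow_orderOf_eq_one]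
  have h16 := sixteen_le hx h4 hreg hxy hr hr5 hyr hfix
  have hy1 : y ≠ 1 := by
    rintro rfl
    rw [orderOf_one] at hy
    exact hr.one_lt.ne hy
  have hlt : finrank ℚ (fix (rep y)) < 24 := by
    rw [← finrank_Sp]
    exact Submodule.finrank_lt (fix_ne_top hy1)
  have hp : rep y ^ r = 1 := by rw [← map_pow, hyr, map_one]
  obtain ⟨k, hk⟩ := prime_dvd hr hp
  rw [finrank_Sp] at hk
  have hk0 : k ≠ 0 := by
    rintro rfl
    omega
  have h3 : r - 1 ≤ (r - 1) * k := Nat.le_mul_of_pos_right _ (Nat.pos_of_ne_zero hk0)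
  have h4 : r ≤ 9 := by omega
  have h5 : 2 ≤ r := hr.two_le
  interval_cases r
  · exact hr2 rfl
  · rcases F.dims y hy with e | e | e | e <;> omega
  · norm_num at hr
  · exact hr5 rfl
  · norm_num at hr
  · have := fix_le_six (g := y) hy
    omega
  · norm_num at hr
  · norm_num at hr

theorem not_three (F : Facts) (hx : x ^ 5 = 1) (h4 : finrank ℚ (fix (rep x)) = 4) (hreg : Reg5 x) (hxy : Commute x y)
    (hy : orderOf y = 3) (hfix : fix (rep x) ≤ fix (rep y)) : False :=
  not_odd F hx h4 hreg hxy (r := 3) (by norm_num) (by norm_num) (by norm_num) hy hfix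

/-- `Reg5` is invariant under conjugation. -/
theorem Reg5.conj (h : Reg5 x) (g : Co0) : Reg5 (g * x * g⁻¹) := by
  obtain ⟨l, H⟩ := h
  have e : ∀ v : leechLattice, Nm (g * x * g⁻¹) (g • v) = g • Nm x v := by
    intro v
    unfold Nm
    rw [smul_sum']
    refine Finset.sum_congr rfl fun k _ => ?_
    rw [conj_pow, mul_smul, mul_smul, inv_smul_smul]
  refine ⟨fun i => g • l i, fun c hc => ?_⟩
  obtain ⟨μ, hμ⟩ := hc
  refine H c ⟨g⁻¹ • μ, ?_⟩
  have e2 : ∑ i, c i • Nm (g * x * g⁻¹) (g • l i) = g • ∑ i, c i • Nm x (l i) := by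
    rw [smul_sum']
    refine Finset.sum_congr rfl fun i _ => ?_
    rw [e]
    exact ((smulHom g).map_zsmul _ _).symm
  rw [e2] at hμ
  have e3 : g⁻¹ • ((5 : ℤ) • μ) = (5 : ℤ) • (g⁻¹ • μ) := (smulHom g⁻¹).map_zsmul _ _
  rw [← e3, ← hμ, inv_smul_smul]

end Cfsg.Agent.CoFiveFour.Ker

private theorem dce_422ea8db5a42 : _root_.True := by
  try have : _root_.True := by simp only [_root_.Cfsg.Agent.CoFiveFour.Ker.Nm.eq_1]
  exact _root_.True.intro
end
end
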